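import Mathlib
import Cfsg.Prelude.Def_HallClasses
import Cfsg.Agent.Lib.PronormalSylow

/-!
# Pronormality of the overgroups of a Sylow subgroup

Criteria in terms of the normaliser of the Sylow subgroup.
-/

set_option autoImplicit false
set_option linter.style.haveILetI false

namespace CfsgLib.PronOdd

open CfsgLib.PronSyl

variable {G : Type*} [Group G] [Finite G] {p : ℕ} [Fact p.Prime]

/-- It is enough to treat the conjugations by the normaliser of the Sylow subgroup. -/
theorem pronormal_of_normalizer (S : Sylow p G) {K : Subgroup G} (hSK : (S : Subgroup G) ≤ K)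
    (h : ∀ n ∈ Subgroup.normalizer ((S : Subgroup G) : Set G), ∃ x ∈ K ⊔ cj n K, cj n K = cj x K) :
    Cfsg.IsPronormal K := by
  intro g
  show ∃ x ∈ K ⊔ cj g K, cj g K = cj x K
  set J := K ⊔ cj g K with hJ
  have h1 : (S : Subgroup G) ≤ J := hSK.trans le_sup_left
  have hm : ∀ X : Subgroup G, X ≤ J → IsPGroup p X → (S : Subgroup G) ≤ X → X = S :=
    fun X _ hX hS => S.is_maximal' hX hS
  obtain ⟨y, hy, e⟩ := exists_conj_of_maximal S.isPGroup' (S.isPGroup'.map _) hm h1
    ((Subgroup.map_mono hSK).trans le_sup_right : cj g (S : Subgroup G) ≤ J)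
    (Subgroup.card_map_of_injective (MulAut.conj g).injective)
  obtain ⟨n, hn⟩ : ∃ n, n = y⁻¹ * g := ⟨_, rfl⟩
  obtain ⟨x, hx, ex⟩ := h n (hn ▸ cj_inv_mul_mem e)
  have e1 : cj g K = cj y (cj n K) := by rw [← cj_mul, hn, mul_inv_cancel_left]
  have hnJ : cj n K ≤ J := by
    have : cj n K = cj y⁻¹ (cj g K) := by rw [e1, ← cj_mul, inv_mul_cancel, cj_one]
    rw [this]
    exact cj_le_of_mem (inv_mem hy) le_sup_right
  refine ⟨y * x, mul_mem hy (sup_le le_sup_left hnJ hx), ?_⟩
  rw [e1, ex, ← cj_mul]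

/-- Overgroups normalised by the normaliser are pronormal. -/
theorem pronormal_of_le_normalizer (S : Sylow p G) {K : Subgroup G} (hSK : (S : Subgroup G) ≤ K)
    (h : Subgroup.normalizer ((S : Subgroup G) : Set G) ≤ Subgroup.normalizer (K : Set G)) :
    Cfsg.IsPronormal K :=
  pronormal_of_normalizer S hSK fun n hn => ⟨1, one_mem _, by rw [cj_one, cj_eq_iff.mpr (h hn)]⟩

/-- The overgroups of a self-normalising Sylow subgroup are pronormal. -/
theorem pronormal_of_selfNormalizing (S : Sylow p G)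
    (h : Subgroup.normalizer ((S : Subgroup G) : Set G) ≤ (S : Subgroup G)) {K : Subgroup G}
    (hSK : (S : Subgroup G) ≤ K) : Cfsg.IsPronormal K :=
  pronormal_of_le_normalizer S hSK (h.trans (hSK.trans Subgroup.le_normalizer))

/-- All overgroups of all Sylow subgroups are pronormal if this holds for one of them. -/
theorem pronormal_of_one (S : Sylow p G)
    (h : ∀ K : Subgroup G, (S : Subgroup G) ≤ K → Cfsg.IsPronormal K) {H : Subgroup G}
    (hH : ¬ p ∣ H.index) : Cfsg.IsPronormal H := by
  obtain ⟨P⟩ : Nonempty (Sylow p H) := inferInstance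
  have hPp : IsPGroup p ((P : Subgroup H).map H.subtype) := P.isPGroup'.map _
  have hidx : ¬ p ∣ ((P : Subgroup H).map H.subtype).index := by
    rw [Subgroup.index_map_subtype, Nat.Prime.dvd_mul Fact.out]
    exact not_or.mpr ⟨P.not_dvd_index, hH⟩
  obtain ⟨g, hg⟩ := MulAction.exists_smul_eq G (hPp.toSylow hidx) S
  have e : (S : Subgroup G) = cj g ((P : Subgroup H).map H.subtype) := by
    rw [← hg, Sylow.coe_subgroup_smul, Subgroup.pointwise_smul_def]
    rfl
  have h1 := h (cj g H) (e.le.trans (Subgroup.map_mono (Subgroup.map_subtype_le _)))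
  have h2 := pronormal_map (MulAut.conj g⁻¹).toMonoidHom (MulAut.conj g⁻¹).surjective h1
  change Cfsg.IsPronormal (cj g⁻¹ (cj g H)) at h2
  rwa [← cj_mul, inv_mul_cancel, cj_one] at h2

/-- Pronormality of all subgroups of index prime to `p` passes to quotients. -/
theorem pronormal_of_surjective {G' : Type*} [Group G'] (f : G →* G') (hf : Function.Surjective f)
    (h : ∀ K : Subgroup G, ¬ p ∣ K.index → Cfsg.IsPronormal K) {H : Subgroup G'} (hH : ¬ p ∣ H.index) :
    Cfsg.IsPronormal H := by
  rw [← Subgroup.map_comap_eq_self_of_surjective hf H]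
  exact pronormal_map f hf (h _ (by rwa [Subgroup.index_comap_of_surjective H hf]))

/-- In a cyclic group a subgroup is determined by its order. -/
theorem cyclic_ext {C : Type*} [Group C] [Finite C] [IsCyclic C] {A B : Subgroup C}
    (h : Nat.card A = Nat.card B) : A = B := by
  classical
  haveI := Fintype.ofFinite C
  have key : ∀ X : Subgroup C, (X : Set C) = {x | x ^ Nat.card X = 1} := fun X => by
    refine Set.eq_of_subset_of_ncard_le (fun x hx => ?_) ?_ (Set.toFinite _)
    · exact orderOf_dvd_iff_pow_eq_one.mp (Subgroup.orderOf_dvd_natCard X hx)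
    · have h1 : ({x | x ^ Nat.card X = 1} : Set C).ncard =
          (Finset.univ.filter fun x : C => x ^ Nat.card X = 1).card := by
        rw [← Set.ncard_coe_finset, Finset.coe_filter_univ]
      rw [h1, ← Nat.card_coe_set_eq]
      exact IsCyclic.card_pow_eq_one_le Nat.card_pos
  exact SetLike.coe_injective (by rw [key A, key B, h])

/-- A Sylow subgroup of index three in its normaliser, abelian, whose invariant subgroups of
coprime order are cyclic. -/
theorem pronormal_of_abelian (S : Sylow p G)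
    (hab : ∀ a ∈ (S : Subgroup G), ∀ b ∈ (S : Subgroup G), a * b = b * a)
    (hidx : ((S : Subgroup G).subgroupOf (Subgroup.normalizer ((S : Subgroup G) : Set G))).index.Prime)
    (hcyc : ∀ O : Subgroup G, ¬ p ∣ Nat.card O →
      (S : Subgroup G) ≤ Subgroup.normalizer (O : Set G) → IsCyclic O)
    {K : Subgroup G} (hSK : (S : Subgroup G) ≤ K) : Cfsg.IsPronormal K := by
  classical
  refine pronormal_of_normalizer S hSK fun n hn => ?_
  set N := Subgroup.normalizer ((S : Subgroup G) : Set G) with hN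
  set J := K ⊔ cj n K with hJ
  have hSJ : (S : Subgroup G) ≤ J := hSK.trans le_sup_left
  by_cases hnJ : n ∈ J
  · exact ⟨n, hnJ, rfl⟩
  refine ⟨1, one_mem _, ?_⟩
  rw [cj_one]
  have hNJ : N ⊓ J = (S : Subgroup G) := by
    have hle : (S : Subgroup G) ≤ N ⊓ J := le_inf Subgroup.le_normalizer hSJ
    refine le_antisymm ?_ hle
    have h1 := Subgroup.relIndex_mul_relIndex _ _ N hle inf_le_left
    change (S : Subgroup G).relIndex (N ⊓ J) * (N ⊓ J).relIndex N =
      ((S : Subgroup G).subgroupOf N).index at h1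
    rcases hidx.eq_one_or_self_of_dvd _ (Dvd.intro _ h1) with h2 | h2
    · exact Subgroup.relIndex_eq_one.mp h2
    · rw [h2] at h1
      have h3 : (N ⊓ J).relIndex N = 1 := Nat.eq_of_mul_eq_mul_left hidx.pos (by rw [h1, mul_one])
      exact absurd (Subgroup.relIndex_eq_one.mp h3 hn).2 hnJ
  -- the normal complement inside `J`
  set P : Sylow p J := S.subtype hSJ with hP
  have hPe : ((P : Sylow p J) : Subgroup J) = (S : Subgroup G).subgroupOf J := rfl
  have hburn : Subgroup.normalizer ((P : Subgroup J) : Set J) ≤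
      Subgroup.centralizer ((P : Subgroup J) : Set J) := by
    intro x hx
    have hxS : (x : G) ∈ (S : Subgroup G) := by
      rw [← hNJ]
      refine ⟨?_, x.2⟩
      show (x : G) ∈ Subgroup.normalizer ((S : Subgroup G) : Set G)
      rw [Subgroup.mem_normalizer_iff]
      intro y
      constructor
      · intro hy
        exact (Subgroup.mem_normalizer_iff.mp hx ⟨y, hSJ hy⟩).mp hy
      · intro hy
        have hyJ : y ∈ J := by
          have := J.mul_mem (J.mul_mem (J.inv_mem x.2) (hSJ hy)) x.2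
          simpa [mul_assoc] using this
        exact (Subgroup.mem_normalizer_iff.mp hx ⟨y, hyJ⟩).mpr hy
    rw [Subgroup.mem_centralizer_iff]
    intro y hy
    exact Subtype.ext (hab _ hy _ hxS)
  obtain ⟨O, hO⟩ : ∃ O, O = (MonoidHom.transferSylow P hburn).ker := ⟨_, rfl⟩
  haveI : O.Normal := hO ▸ MonoidHom.normal_ker _
  have hcompl : O.IsComplement' (P : Subgroup J) :=
    hO ▸ MonoidHom.ker_transferSylow_isComplement' P hburn
  have hOp : ¬ p ∣ Nat.card O := hO ▸ MonoidHom.not_dvd_card_ker_transferSylow P hburn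
  set OG := O.map J.subtype with hOG
  have hOGc : Nat.card OG = Nat.card O := Subgroup.card_map_of_injective J.subtype_injective
  have hJN : J ≤ Subgroup.normalizer (OG : Set G) := by
    have := Subgroup.le_normalizer_map J.subtype (H := O)
    rwa [Subgroup.normalizer_eq_top_iff.mpr ‹O.Normal›, ← MonoidHom.range_eq_map,
      Subgroup.range_subtype] at this
  haveI hOc : IsCyclic OG := hcyc OG (by rwa [hOGc]) (hSJ.trans hJN)
  -- an overgroup of `S` inside `J` is determined by its intersection with the complement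
  have key : ∀ L : Subgroup G, (S : Subgroup G) ≤ L → L ≤ J →
      L = (L ⊓ OG) ⊔ (S : Subgroup G) ∧ Nat.card L = Nat.card ↥(L ⊓ OG) * Nat.card (S : Subgroup G) := by
    intro L hSL hLJ
    have hdec : ∀ l ∈ L, ∃ o ∈ L ⊓ OG, ∃ s ∈ (S : Subgroup G), l = o * s := by
      intro l hl
      obtain ⟨⟨⟨o, ho⟩, ⟨s, hs⟩⟩, e, -⟩ := Subgroup.isComplement_iff_existsUnique.mp hcompl ⟨l, hLJ hl⟩
      have e' : (o : G) * (s : G) = l := congrArg Subtype.val e
      refine ⟨o, ⟨?_, ⟨o, ho, rfl⟩⟩, s, hs, e'.symm⟩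
      have := L.mul_mem hl (L.inv_mem (hSL hs))
      simpa [← e'] using this
    have hL : L = (L ⊓ OG) ⊔ (S : Subgroup G) := by
      refine le_antisymm (fun l hl => ?_) (sup_le inf_le_left hSL)
      obtain ⟨o, ho, s, hs, rfl⟩ := hdec l hl
      exact Subgroup.mul_mem_sup ho hs
    refine ⟨hL, ?_⟩
    have hd : Disjoint (L ⊓ OG) (S : Subgroup G) := by
      rw [disjoint_iff]
      refine Subgroup.inf_eq_bot_of_coprime ?_
      obtain ⟨m, hm⟩ := IsPGroup.iff_card.mp S.isPGroup'
      rw [hm]
      refine Nat.Coprime.pow_right _ (Nat.Coprime.symm ((Fact.out : p.Prime).coprime_iff_not_dvd.mpr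
        fun h => hOp (hOGc ▸ h.trans (Subgroup.card_dvd_of_le inf_le_right))))
    rw [← Nat.card_prod]
    refine (Nat.card_congr (Equiv.ofBijective
      (fun a : ↥(L ⊓ OG) × (S : Subgroup G) => (⟨a.1.1 * a.2.1, L.mul_mem a.1.2.1 (hSL a.2.2)⟩ : L))
      ⟨fun a b h => Subgroup.mul_injective_of_disjoint hd (congrArg Subtype.val h), fun l => ?_⟩)).symm
    obtain ⟨o, ho, s, hs, e⟩ := hdec l.1 l.2
    exact ⟨(⟨o, ho⟩, ⟨s, hs⟩), Subtype.ext e.symm⟩
  have hSn : (S : Subgroup G) ≤ cj n K := (cj_eq_iff.mpr hn).symm.le.trans (Subgroup.map_mono hSK)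
  obtain ⟨e1, c1⟩ := key K hSK le_sup_left
  obtain ⟨e2, c2⟩ := key (cj n K) hSn le_sup_right
  have hc : Nat.card ↥(cj n K ⊓ OG) = Nat.card ↥(K ⊓ OG) :=
    Nat.eq_of_mul_eq_mul_right Nat.card_pos
      (c2.symm.trans ((Subgroup.card_map_of_injective (MulAut.conj n).injective).trans c1))
  have huniq : ∀ A B : Subgroup G, A ≤ OG → B ≤ OG → Nat.card A = Nat.card B → A = B := by
    intro A B hA hB hAB
    have : A.subgroupOf OG = B.subgroupOf OG := cyclic_ext (by
      rw [Nat.card_congr (Subgroup.subgroupOfEquivOfLe hA).toEquiv,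
        Nat.card_congr (Subgroup.subgroupOfEquivOfLe hB).toEquiv, hAB])
    rw [← inf_eq_left.mpr hA, ← inf_eq_left.mpr hB, ← Subgroup.subgroupOf_map_subtype, this,
      Subgroup.subgroupOf_map_subtype]
  rw [e2, huniq _ _ inf_le_right inf_le_right hc, ← e1]

end CfsgLib.PronOdd
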