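import Mathlib
import Cfsg.Agent.Lib.SL2Centralizer
import Cfsg.Agent.Lib.Elementary

/-!
# The normaliser of a Sylow `2`-subgroup of a two-dimensional linear group
-/

set_option autoImplicit false
set_option linter.style.haveILetI false
set_option linter.unusedSectionVars false

namespace CfsgLib.PronOdd

open Matrix

variable {F : Type*} [Field F]

local notation "M2" => Matrix (Fin 2) (Fin 2) F
local notation "G2" => GL (Fin 2) F
local notation "dt" => (Matrix.GeneralLinearGroup.det : GL (Fin 2) F →* Fˣ)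

/-- Scalar matrices of size two. -/
def scal : Fˣ →* G2 := Units.map (algebraMap F (Matrix (Fin 2) (Fin 2) F)).toMonoidHom

theorem scal_val (c : Fˣ) : (scal c : G2).1 = (c : F) • (1 : M2) := by
  show algebraMap F M2 (c : F) = _
  rw [Algebra.algebraMap_eq_smul_one]

theorem det_scal (c : Fˣ) : dt (scal c) = c ^ 2 := by
  apply Units.ext
  show (scal c : G2).1.det = _
  rw [scal_val, Matrix.det_smul, Matrix.det_one, mul_one, Fintype.card_fin, Units.val_pow_eq_pow_val]

theorem scal_comm (c : Fˣ) (g : G2) : scal c * g = g * scal c := by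
  apply Units.ext
  rw [Units.val_mul, Units.val_mul, scal_val, smul_mul_assoc, one_mul, mul_smul_comm, mul_one]

/-- The commutant of a non-scalar matrix is commutative. -/
theorem commute_of_commute {A B C : M2} (hA : ∀ a : F, A ≠ a • (1 : M2)) (hB : Commute B A)
    (hC : Commute C A) : Commute B C := by
  obtain ⟨x, y, rfl⟩ := SL2Centralizer.exists_of_commute hA hB
  obtain ⟨z, w, rfl⟩ := SL2Centralizer.exists_of_commute hA hC
  simp only [Commute, SemiconjBy, add_mul, mul_add, smul_mul_assoc, mul_smul_comm, one_mul, mul_one,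
    smul_smul, smul_add, mul_comm x, mul_comm y]
  abel

/-- An element commuting with two noncommuting matrices is a scalar. -/
theorem eq_scal_of_commute {x a b : G2} (hab : a * b ≠ b * a) (ha : x * a = a * x) (hb : x * b = b * x) :
    ∃ c : Fˣ, x = scal c := by
  by_cases h : ∀ c : F, x.1 ≠ c • (1 : M2)
  · refine absurd (Units.ext ?_) hab
    exact (commute_of_commute h (show Commute a.1 x.1 from (congrArg Units.val ha).symm)
      (show Commute b.1 x.1 from (congrArg Units.val hb).symm)).eq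
  · push Not at h
    obtain ⟨c, hc⟩ := h
    have hc0 : c ≠ 0 := by
      rintro rfl
      rw [zero_smul] at hc
      exact x.ne_zero hc
    exact ⟨Units.mk0 c hc0, Units.ext (by rw [scal_val, Units.val_mk0, hc])⟩

theorem commute_of_scal {a b : G2} {c : Fˣ} (h : a = scal c) : a * b = b * a := by rw [h, scal_comm]

theorem neg_one_mul' (g : G2) : (-1 : G2) * g = g * -1 := by
  rw [neg_mul, one_mul, mul_neg, mul_one]

/-- The involutions of determinant one. -/
theorem sq_eq_one (h2 : (2 : F) ≠ 0) {x : G2} (hd : dt x = 1) (hx : x * x = 1) : x = 1 ∨ x = -1 := by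
  set g : Matrix.SpecialLinearGroup (Fin 2) F := ⟨x.1, congrArg Units.val hd⟩ with hg
  have h := SL2Orders.sq_eq g
  rw [show (g.1 : M2) = x.1 from rfl, ← Units.val_mul, hx, Units.val_one] at h
  have h' : x.1.trace • x.1 = (2 : F) • (1 : M2) := by
    rw [two_smul]
    exact (eq_sub_iff_add_eq.mp h).symm
  have ht : x.1.trace ≠ 0 := by
    intro e
    rw [e, zero_smul] at h'
    have := congrFun (congrFun h' 0) 0
    simp at this
    exact h2 this.symm
  have hs : x.1 = (2 / x.1.trace) • (1 : M2) := by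
    have h3 := congrArg (fun Y => x.1.trace⁻¹ • Y) h'
    simp only [smul_smul, inv_mul_cancel₀ ht, one_smul] at h3
    refine h3.trans ?_
    rw [div_eq_inv_mul]
  have hsq : (2 / x.1.trace) * (2 / x.1.trace) = 1 := by
    have h4 := congrArg Units.val hx
    rw [Units.val_mul, Units.val_one, hs, smul_mul_assoc, one_mul, smul_smul] at h4
    simpa using congrFun (congrFun h4 0) 0
  rcases mul_self_eq_one_iff.mp hsq with e | e <;> rw [e] at hs
  · exact Or.inl (Units.ext (by rw [hs, one_smul, Units.val_one]))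
  · exact Or.inr (Units.ext (by rw [hs, Units.val_neg, Units.val_one, neg_smul, one_smul]))

theorem det_neg_one : dt (-1 : G2) = 1 := by
  apply Units.ext
  show (-1 : M2).det = 1
  rw [Matrix.det_neg, Matrix.det_one, Fintype.card_fin]
  ring

/-- A decomposition into the parts of two power and odd orders. -/
theorem exists_two_parts {G : Type*} [Group G] [Finite G] (x : G) :
    ∃ a b : G, x = a * b ∧ a ∈ Subgroup.zpowers x ∧ b ∈ Subgroup.zpowers x ∧
      (∃ n, a ^ 2 ^ n = 1) ∧ ∃ N, ¬ 2 ∣ N ∧ b ^ N = 1 := by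
  obtain ⟨e, r, hr, he⟩ := Nat.exists_eq_two_pow_mul_odd (orderOf_pos x).ne'
  have hco : Nat.Coprime r (2 ^ e) :=
    Nat.Coprime.pow_right _ (Nat.coprime_two_right.mpr hr)
  have hx : x ^ (((2 : ℕ) ^ e * r : ℕ) : ℤ) = 1 := by rw [zpow_natCast, ← he, pow_orderOf_eq_one]
  refine ⟨x ^ ((r : ℤ) * Nat.gcdA r (2 ^ e)), x ^ (((2 ^ e : ℕ) : ℤ) * Nat.gcdB r (2 ^ e)), ?_,
    ⟨_, rfl⟩, ⟨_, rfl⟩, ⟨e, ?_⟩, r, fun h => Nat.not_even_iff_odd.mpr hr (even_iff_two_dvd.mpr h), ?_⟩
  · rw [← _root_.zpow_add, ← Nat.gcd_eq_gcd_ab, hco.gcd_eq_one, Nat.cast_one, zpow_one]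
  · rw [← zpow_natCast, ← _root_.zpow_mul,
      show (r : ℤ) * Nat.gcdA r (2 ^ e) * ((2 ^ e : ℕ) : ℤ) =
        ((2 ^ e * r : ℕ) : ℤ) * Nat.gcdA r (2 ^ e) by push_cast; ring,
      _root_.zpow_mul, hx, _root_.one_zpow]
  · rw [← zpow_natCast, ← _root_.zpow_mul,
      show ((2 ^ e : ℕ) : ℤ) * Nat.gcdB r (2 ^ e) * (r : ℤ) =
        ((2 ^ e * r : ℕ) : ℤ) * Nat.gcdB r (2 ^ e) by push_cast; ring,
      _root_.zpow_mul, hx, _root_.one_zpow]

/-- The properties of a Sylow `2`-subgroup `M` of a two-dimensional group `U` which are used. -/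
structure Setup (U M : Subgroup (GL (Fin 2) F)) : Prop where
  le : M ≤ U
  pgroup : IsPGroup 2 M
  max : ∀ x ∈ U, x ∈ Subgroup.normalizer (M : Set (GL (Fin 2) F)) → (∃ n, x ^ 2 ^ n = 1) → x ∈ M
  noncomm : ∃ a ∈ M, ∃ b ∈ M, Matrix.GeneralLinearGroup.det a = 1 ∧
    Matrix.GeneralLinearGroup.det b = 1 ∧ a * b ≠ b * a
  nonsquare : ∃ t ∈ M, ∀ c : Fˣ, scal c ∈ U → Matrix.GeneralLinearGroup.det t ≠ c ^ 2

variable [Fintype F] [DecidableEq F] {U M : Subgroup (GL (Fin 2) F)}

theorem Setup.sq_pm (hS : Setup U M) (h2 : (2 : F) ≠ 0) :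
    ∃ i ∈ M, dt i = 1 ∧ i * i = -1 ∧ ∀ m ∈ M, m * i * m⁻¹ = i ∨ m * i * m⁻¹ = -i := by
  classical
  obtain ⟨a, ha, b, hb, had, hbd, hab⟩ := hS.noncomm
  let Z : Subgroup M := ⊥ ⊔ (Subgroup.zpowers (-1 : G2)).subgroupOf M
  haveI : Fact (Nat.Prime 2) := ⟨Nat.prime_two⟩
  have hZc : ∀ z ∈ Z, ∀ m : M, z * m = m * z := by
    intro z hz m
    rw [show Z = (Subgroup.zpowers (-1 : G2)).subgroupOf M from bot_sup_eq _] at hz
    obtain ⟨k, hk⟩ := hz
    refine Subtype.ext ?_
    have hk' : (-1 : G2) ^ k = (z : G2) := hk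
    show (z : G2) * (m : G2) = (m : G2) * (z : G2)
    rw [← hk']
    exact ((show Commute (-1 : G2) (m : G2) from neg_one_mul' _).zpow_left k).eq
  haveI : Z.Normal := ⟨fun z hz g => by rwa [← hZc z hz g, mul_inv_cancel_right]⟩
  haveI : Group.IsNilpotent M := hS.pgroup.isNilpotent
  haveI : Group.IsNilpotent (M ⧸ Z) :=
    nilpotent_of_surjective (QuotientGroup.mk' Z) (QuotientGroup.mk'_surjective Z)
  let Q : Subgroup M := ((dt).comp M.subtype).ker
  haveI : Q.Normal := MonoidHom.normal_ker _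
  haveI hQn : (Q.map (QuotientGroup.mk' Z)).Normal :=
    Subgroup.Normal.map inferInstance _ (QuotientGroup.mk'_surjective Z)
  have hpm : ∀ x : M, x ∈ Z ↔ (x : G2) = 1 ∨ (x : G2) = -1 := by
    intro x
    rw [show Z = (Subgroup.zpowers (-1 : G2)).subgroupOf M from bot_sup_eq _, Subgroup.mem_subgroupOf,
      Subgroup.mem_zpowers_iff]
    constructor
    · rintro ⟨k, hk⟩
      rcases Int.even_or_odd' k with ⟨j, rfl | rfl⟩
      · rw [_root_.zpow_mul, _root_.zpow_two, neg_one_mul', mul_neg, mul_one, neg_neg,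
          _root_.one_zpow] at hk
        exact Or.inl hk.symm
      · rw [_root_.zpow_add_one, _root_.zpow_mul, _root_.zpow_two,
          show (-1 : G2) * -1 = 1 by rw [mul_neg, mul_one, neg_neg],
          _root_.one_zpow, one_mul] at hk
        exact Or.inr hk.symm
    · rintro (h | h)
      · exact ⟨0, by rw [zpow_zero, h]⟩
      · exact ⟨1, by rw [zpow_one, h]⟩
  have hne : Q.map (QuotientGroup.mk' Z) ≠ ⊥ := by
    intro h
    rw [Subgroup.map_eq_bot_iff, QuotientGroup.ker_mk'] at h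
    have h1 : (⟨a, ha⟩ : M) ∈ Z := h (show dt a = 1 from had)
    rcases (hpm _).mp h1 with e | e
    · exact hab (by rw [show a = 1 from e, one_mul, mul_one])
    · exact hab (by rw [show a = -1 from e, neg_one_mul'])
  obtain ⟨⟨z, hz⟩, hz1⟩ :=
    Subgroup.ne_bot_iff_exists_ne_one.mp (CfsgLib.inf_center_ne_bot_of_nilpotent hne)
  obtain ⟨hzQ, hzc⟩ := Subgroup.mem_inf.mp hz
  obtain ⟨i, hiQ, rfl⟩ := hzQ
  have hi0 : ¬((i : G2) = 1 ∨ (i : G2) = -1) := fun h =>
    hz1 (Subtype.ext ((QuotientGroup.eq_one_iff i).mpr ((hpm i).mpr h)))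
  have hconj : ∀ m : M, (m : G2) * i * (m : G2)⁻¹ = i ∨ (m : G2) * i * (m : G2)⁻¹ = -(i : G2) := by
    intro m
    have h1 := Subgroup.mem_center_iff.mp hzc (QuotientGroup.mk' Z m)
    rw [← map_mul, ← map_mul, QuotientGroup.mk'_apply, QuotientGroup.mk'_apply, QuotientGroup.eq] at h1
    rcases (hpm _).mp h1 with h3 | h3 <;>
      simp only [Subgroup.coe_mul, Subgroup.coe_inv] at h3
    · refine Or.inl ?_
      rw [inv_mul_eq_one] at h3
      rw [h3]; simp [mul_assoc]
    · refine Or.inr ?_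
      rw [inv_mul_eq_iff_eq_mul, mul_neg, mul_one] at h3
      rw [show (m : G2) * (i : G2) = -((i : G2) * m) by rw [h3, neg_neg], neg_mul, mul_inv_cancel_right]
  -- pass to the last power which is not `±1`
  obtain ⟨N, hN⟩ : ∃ N, (i : G2) ^ 2 ^ N = 1 := by
    obtain ⟨N, hN⟩ := hS.pgroup i
    exact ⟨N, congrArg Subtype.val hN⟩
  let P : ℕ → Prop := fun n => (i : G2) ^ 2 ^ n = 1 ∨ (i : G2) ^ 2 ^ n = -1
  have hex : ∃ n, P n := ⟨N, Or.inl hN⟩
  set n := Nat.find hex with hn
  have hn0 : n ≠ 0 := by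
    intro e
    have h : P n := Nat.find_spec hex
    rw [e] at h
    simp only [P, pow_zero, pow_one] at h
    exact hi0 h
  obtain ⟨n', hn'⟩ := Nat.exists_eq_succ_of_ne_zero hn0
  set j := (i : G2) ^ 2 ^ n' with hj
  have hjj : j * j = 1 ∨ j * j = -1 := by
    have h : P n := Nat.find_spec hex
    rwa [hn', show P (n' + 1) = (_ ∨ _) from rfl, pow_succ 2 n', pow_mul, _root_.sq] at h
  have hjn : ¬(j = 1 ∨ j = -1) := fun h => Nat.find_min hex (show n' < n by omega) h
  have hjd : dt j = 1 := by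
    rw [hj, map_pow, show dt (i : G2) = 1 from hiQ, one_pow]
  refine ⟨j, pow_mem i.2 _, hjd, hjj.resolve_left fun h => hjn (sq_eq_one h2 hjd h), fun m hm => ?_⟩
  rcases hconj ⟨m, hm⟩ with e | e
  · left; rw [hj, ← conj_pow, e]
  · rcases Nat.eq_zero_or_pos n' with h0 | h0
    · right; rw [hj, ← conj_pow, e, h0, pow_zero, pow_one, pow_one]
    · left
      obtain ⟨n'', rfl⟩ := Nat.exists_eq_succ_of_ne_zero h0.ne'
      rw [hj, ← conj_pow, e, pow_succ', pow_mul, pow_mul, neg_sq]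

/-- The elements of `U` normalising `M` are scalar multiples of elements of `M`. -/
theorem Setup.normalizer_le (hS : Setup U M) (h2 : (2 : F) ≠ 0) {x : G2} (hxU : x ∈ U)
    (hx : x ∈ Subgroup.normalizer (M : Set G2)) :
    ∃ m ∈ M, ∃ c : Fˣ, scal c ∈ U ∧ x = m * scal c := by
  classical
  obtain ⟨a, b, rfl, ha, hb, ha2, N, hN, hbN⟩ := exists_two_parts x
  have hzU := Subgroup.zpowers_le.mpr hxU
  have hzN := Subgroup.zpowers_le.mpr hx
  have haM : a ∈ M := hS.max a (hzU ha) (hzN ha) ha2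
  obtain ⟨i, hiM, hid, hii, him⟩ := hS.sq_pm h2
  obtain ⟨t, ht, hns⟩ := hS.nonsquare
  have hdc : ∀ u y : G2, dt (u * y * u⁻¹) = dt y := fun u y => by
    rw [map_mul, map_mul, map_inv, mul_right_comm, mul_inv_cancel, one_mul]
  have hbN' : b ∈ Subgroup.normalizer (M : Set G2) := hzN hb
  have hbi : b * i * b⁻¹ ∈ M := (Subgroup.mem_normalizer_iff.mp hbN' i).mp hiM
  -- the conjugate commutes with `i`
  have hcom : i * (b * i * b⁻¹) = b * i * b⁻¹ * i := by
    set i' := b * i * b⁻¹ with hi'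
    have him' : ∀ m ∈ M, m * i' * m⁻¹ = i' ∨ m * i' * m⁻¹ = -i' := by
      intro m hm
      have hm' : b⁻¹ * m * b ∈ M := (Subgroup.mem_normalizer_iff''.mp hbN' m).mp hm
      rcases him _ hm' with e | e
      · left
        rw [hi']
        calc m * (b * i * b⁻¹) * m⁻¹ = b * (b⁻¹ * m * b * i * (b⁻¹ * m * b)⁻¹) * b⁻¹ := by group
          _ = _ := by rw [e]
      · right
        rw [hi']
        calc m * (b * i * b⁻¹) * m⁻¹ = b * (b⁻¹ * m * b * i * (b⁻¹ * m * b)⁻¹) * b⁻¹ := by group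
          _ = _ := by rw [e, mul_neg, neg_mul]
    by_contra hne
    have h1 : i' * i * i'⁻¹ = -i := (him i' hbi).resolve_left fun e => hne (mul_inv_eq_iff_eq_mul.mp e).symm
    have h1' : i * i' * i⁻¹ = -i' := (him' i hiM).resolve_left fun e => hne (mul_inv_eq_iff_eq_mul.mp e)
    have hni : i' * (-i) * i'⁻¹ = i := by rw [mul_neg, neg_mul, h1, neg_neg]
    have hni' : i * (-i') * i⁻¹ = i' := by rw [mul_neg, neg_mul, h1', neg_neg]
    have hsame : i * i * i⁻¹ = i := by group
    have hsame' : i' * i' * i'⁻¹ = i' := by group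
    obtain ⟨q, hqM, hqd, hq1, hq2⟩ : ∃ q ∈ M, dt q = 1 ∧ q * (t * i * t⁻¹) * q⁻¹ = i ∧
        q * (t * i' * t⁻¹) * q⁻¹ = i' := by
      have hi'd : dt i' = 1 := by rw [hi', hdc, hid]
      rcases him t ht with e | e <;> rcases him' t ht with e' | e'
      · exact ⟨1, one_mem _, map_one _, by rw [e]; group, by rw [e']; group⟩
      · exact ⟨i, hiM, hid, by rw [e, hsame], by rw [e', hni']⟩
      · exact ⟨i', hbi, hi'd, by rw [e, hni], by rw [e', hsame']⟩
      · refine ⟨i * i', mul_mem hiM hbi, by rw [map_mul, hid, hi'd, one_mul], ?_, ?_⟩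
        · rw [e, show i * i' * -i * (i * i')⁻¹ = i * (i' * -i * i'⁻¹) * i⁻¹ by group, hni, hsame]
        · rw [e', show i * i' * -i' * (i * i')⁻¹ = i * (i' * -i' * i'⁻¹) * i⁻¹ by group, mul_neg i',
            neg_mul, hsame', hni']
    obtain ⟨c, hc⟩ := eq_scal_of_commute (x := q * t) hne
      (by rw [← mul_inv_eq_iff_eq_mul,
        show q * t * i * (q * t)⁻¹ = q * (t * i * t⁻¹) * q⁻¹ by group]; exact hq1)
      (by rw [← mul_inv_eq_iff_eq_mul,
        show q * t * i' * (q * t)⁻¹ = q * (t * i' * t⁻¹) * q⁻¹ by group]; exact hq2)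
    refine hns c (hc ▸ U.mul_mem (hS.le hqM) (hS.le ht)) ?_
    rw [← det_scal, ← hc, map_mul, hqd, one_mul]
  have hpm : b * i * b⁻¹ = i ∨ b * i * b⁻¹ = -i := by
    set X := b * i * b⁻¹ with hX
    have hX2 : X * X = -1 := by
      rw [hX, show b * i * b⁻¹ * (b * i * b⁻¹) = b * (i * i) * b⁻¹ by group, hii, mul_neg, neg_mul,
        mul_one, mul_inv_cancel]
    have h3 : X * i * (X * i) = 1 := by
      rw [show X * i * (X * i) = X * (i * X) * i by group, hcom,
        show X * (X * i) * i = (X * X) * (i * i) by group, hX2, hii, neg_one_mul', mul_neg, mul_one, neg_neg]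
    have hXd : dt (X * i) = 1 := by rw [map_mul, hX, hdc, hid, one_mul]
    have hiinv : i⁻¹ = -i := inv_eq_of_mul_eq_one_right (by rw [mul_neg, hii, neg_neg])
    rcases sq_eq_one h2 hXd h3 with e | e
    · right; rw [eq_inv_of_mul_eq_one_left e, hiinv]
    · left; rw [eq_mul_inv_of_mul_eq e, hiinv, mul_neg, neg_mul, neg_neg, one_mul]
  have hbi' : b * i = i * b := by
    rw [← mul_inv_eq_iff_eq_mul]
    rcases hpm with e | e
    · exact e
    exfalso
    obtain ⟨s, rfl⟩ : ∃ s, N = 2 * s + 1 := ⟨N / 2, by omega⟩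
    have h2i : b ^ 2 * i = i * b ^ 2 := by
      rw [← mul_inv_eq_iff_eq_mul, _root_.sq,
        show b * b * i * (b * b)⁻¹ = b * (b * i * b⁻¹) * b⁻¹ by group, e, mul_neg, neg_mul, e, neg_neg]
    have hsi : Commute ((b ^ 2) ^ s) i := (show Commute (b ^ 2) i from h2i).pow_left s
    have hb1 : b = ((b ^ 2) ^ s)⁻¹ := eq_inv_of_mul_eq_one_right (by rw [← pow_mul, ← pow_succ, hbN])
    have : Commute b i := hb1 ▸ hsi.inv_left
    rw [mul_inv_eq_iff_eq_mul, this.eq, neg_mul] at e
    have e2 := congrArg Units.val e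
    rw [Units.val_neg] at e2
    have hz : ((2 : F) • (i * b).1) = 0 := by rw [two_smul]; nth_rw 1 [e2]; exact neg_add_cancel _
    exact (i * b).ne_zero ((smul_eq_zero.mp hz).resolve_left h2)
  obtain ⟨a₀, ha₀, b₀, hb₀, -, -, hab⟩ := hS.noncomm
  have hns' : ∀ c : F, i.1 ≠ c • (1 : M2) := by
    intro c hc
    have h4 := congrArg Units.val hii
    rw [Units.val_mul, hc, smul_mul_assoc, one_mul, smul_smul] at h4
    have h5 : c * c = -1 := by simpa using congrFun (congrFun h4 0) 0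
    have h6 := congrArg Units.val hid
    rw [show (dt i : F) = i.1.det from rfl, hc, Matrix.det_smul, Matrix.det_one, Fintype.card_fin] at h6
    simp at h6
    refine h2 ?_
    rcases h6 with h6 | h6 <;> subst h6 <;> linear_combination h5
  obtain ⟨j, hjM, hji⟩ : ∃ j ∈ M, j * i ≠ i * j := by
    by_contra h
    push Not at h
    exact hab (Units.ext (commute_of_commute hns' (show Commute a₀.1 i.1 from congrArg Units.val (h a₀ ha₀))
      (show Commute b₀.1 i.1 from congrArg Units.val (h b₀ hb₀))).eq)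
  have hji' : j * i * j⁻¹ = -i := (him j hjM).resolve_left fun e => hji (mul_inv_eq_iff_eq_mul.mp e)
  have hbj : b * j = j * b := by
    set y := j * b⁻¹ * j⁻¹ with hy
    have hyi : y * i = i * y := by
      have h5 : b⁻¹ * i * b = i := by rw [mul_assoc, ← hbi', inv_mul_cancel_left]
      have hj2 : j⁻¹ * i * j = -i := by
        have e := congrArg (fun z => -(j⁻¹ * z * j)) hji'
        simp only [mul_neg, neg_mul, neg_neg, mul_assoc, inv_mul_cancel, inv_mul_cancel_left, mul_one] at e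
        simpa [mul_assoc] using e.symm
      have h6 : b⁻¹ * (-i) * b = -i := by rw [mul_neg, neg_mul, h5]
      rw [← mul_inv_eq_iff_eq_mul, hy,
        show j * b⁻¹ * j⁻¹ * i * (j * b⁻¹ * j⁻¹)⁻¹ = j * (b⁻¹ * (j⁻¹ * i * j) * b) * j⁻¹ by group, hj2, h6,
        mul_neg, neg_mul, hji', neg_neg]
    have hby : Commute b y := Units.ext (commute_of_commute hns' (show Commute b.1 i.1 from congrArg Units.val hbi')
      (show Commute y.1 i.1 from congrArg Units.val hyi)).eq
    have hyN : y ^ N = 1 := by rw [hy, conj_pow, inv_pow, hbN, inv_one, mul_one, mul_inv_cancel]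
    have h1 : (b * y) ^ N = 1 := by rw [hby.mul_pow, hbN, hyN, one_mul]
    have hbyM : b * y ∈ M := by
      rw [hy, show b * (j * b⁻¹ * j⁻¹) = (b * j * b⁻¹) * j⁻¹ by group]
      exact mul_mem ((Subgroup.mem_normalizer_iff.mp hbN' j).mp hjM) (inv_mem hjM)
    obtain ⟨n, hn⟩ := hS.pgroup ⟨_, hbyM⟩
    have hn' : (b * y) ^ 2 ^ n = 1 := congrArg Subtype.val hn
    have h3 : b * y = 1 := by
      have := pow_gcd_eq_one.mpr ⟨hn', h1⟩
      rwa [(Nat.Coprime.pow_left n ((Nat.prime_two.coprime_iff_not_dvd).mpr hN)).gcd_eq_one, pow_one] at this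
    rw [hy, show b * (j * b⁻¹ * j⁻¹) = (b * j * b⁻¹) * j⁻¹ by group, mul_inv_eq_one,
      mul_inv_eq_iff_eq_mul] at h3
    exact h3
  obtain ⟨c, hc⟩ := eq_scal_of_commute (x := b) (a := i) (b := j) (fun e => hji e.symm) hbi' hbj
  exact ⟨a, haM, c, hc ▸ hzU hb, by rw [hc]⟩

/-- The scalars of two power order lie in `M`. -/
theorem Setup.scal_mem (hS : Setup U M) {c : Fˣ} (hc : scal c ∈ U) {n : ℕ} (hn : c ^ 2 ^ n = 1) :
    scal c ∈ M :=
  hS.max _ hc (Subgroup.mem_normalizer_iff.mpr fun x => by rw [scal_comm c x, mul_inv_cancel_right])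
    ⟨n, by rw [← map_pow, hn, map_one]⟩

end CfsgLib.PronOdd
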