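import Mathlib
import Cfsg.Agent.Lib.PronormalOddIndex.Basic
import Cfsg.Agent.Lib.PronormalOddIndex.Two
import Cfsg.Agent.Lib.LinearSylowTwo.Final
import Cfsg.Agent.Lib.SymSylow

/-!
# Self-normalising Sylow `2`-subgroups of determinant one monomial type
-/

set_option autoImplicit false
set_option linter.style.haveILetI false
set_option linter.unusedSectionVars false

namespace CfsgLib.PronOdd

open Matrix
open CfsgLib.LinearSylowTwo (Ix Bl Prm mono Bl_val Prm_val)

variable {F : Type*} [Field F] [Fintype F] [DecidableEq F] {k : ℕ}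

local notation "M2" => Matrix (Fin 2) (Fin 2) F
local notation "G2" => GL (Fin 2) F
local notation "GK" => GL (Ix k 0) F
local notation "dt" => (Matrix.GeneralLinearGroup.det : GL (Fin 2) F →* Fˣ)
local notation "dK" => (Matrix.GeneralLinearGroup.det : GL (Ix k 0) F →* Fˣ)

/-- Block diagonal matrices. -/
noncomputable def bl : (Fin k → G2) →* GK :=
  (Bl (F := F) (k := k) (r := 0)).comp (MonoidHom.inl _ _)

theorem bl_def (f : Fin k → G2) : bl f = Bl (f, 1) := rfl

/-- The block of a matrix. -/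
def blk (X : Matrix (Ix k 0) (Ix k 0) F) (a b : Fin k) : M2 :=
  X.submatrix (fun u => Sum.inl (u, a)) (fun v => Sum.inl (v, b))

theorem blk_mul (X Y : Matrix (Ix k 0) (Ix k 0) F) (a b : Fin k) :
    blk (X * Y) a b = ∑ c, blk X a c * blk Y c b := by
  ext u v
  simp only [blk, Matrix.submatrix_apply, Matrix.mul_apply, Matrix.sum_apply, Fintype.sum_sum_type,
    Finset.univ_eq_empty, Finset.sum_empty, add_zero, Fintype.sum_prod_type]
  exact Finset.sum_comm

theorem blk_ext {X Y : Matrix (Ix k 0) (Ix k 0) F} (h : ∀ a b, blk X a b = blk Y a b) : X = Y := by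
  ext x y
  rcases x with ⟨u, a⟩ | x
  · rcases y with ⟨v, b⟩ | y
    · exact congrFun (congrFun (h a b) u) v
    · exact y.elim0
  · exact x.elim0

theorem blk_one (a b : Fin k) : blk (1 : Matrix (Ix k 0) (Ix k 0) F) a b = if a = b then 1 else 0 := by
  ext u v
  by_cases h : a = b
  · simp [blk, h, Matrix.one_apply]
  · simp [blk, h]

theorem blk_sub (X Y : Matrix (Ix k 0) (Ix k 0) F) (a b : Fin k) :
    blk (X - Y) a b = blk X a b - blk Y a b := rfl

theorem blk_bl_prm (f : Fin k → G2) (w : Equiv.Perm (Fin k)) (a b : Fin k) :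
    blk (bl f * Prm w : GK).1 a b = if a = w b then (f a).1 else 0 := by
  rw [Units.val_mul, Prm_val, PEquiv.mul_toMatrix_toPEquiv, bl_def, Bl_val]
  ext u v
  by_cases h : a = w b
  · simp [blk, h, LinearSylowTwo.ePerm, Matrix.blockDiagonal_apply, Equiv.Perm.inv_def]
  · simp [blk, h, LinearSylowTwo.ePerm, Matrix.blockDiagonal_apply, Equiv.Perm.inv_def]

theorem blk_bl (f : Fin k → G2) (a b : Fin k) :
    blk (bl f : GK).1 a b = if a = b then (f a).1 else 0 := by
  have := blk_bl_prm f 1 a b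
  rwa [map_one, mul_one, Equiv.Perm.one_apply] at this

theorem prm_bl (w : Equiv.Perm (Fin k)) (f : Fin k → G2) :
    Prm w * bl f = (bl (f ∘ ⇑w⁻¹) : GK) * Prm w := LinearSylowTwo.Prm_Bl w (f, 1)

theorem bl_prm_inj {f f' : Fin k → G2} {w w' : Equiv.Perm (Fin k)}
    (h : (bl f : GK) * Prm w = bl f' * Prm w') : f = f' ∧ w = w' := by
  have := @LinearSylowTwo.Bl_mul_Prm_injective F _ _ _ k 0 ((f, 1), w) ((f', 1), w') h
  simp only [Prod.ext_iff] at this
  exact ⟨this.1.1, this.2⟩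

theorem det_bl (f : Fin k → G2) : dK (bl f) = ∏ a, dt (f a) := by
  rw [bl_def, LinearSylowTwo.det_Bl]
  simp

/-- The intersection of the monomial group with the special linear group. -/
noncomputable def sylowSL (M : Subgroup (GL (Fin 2) F)) (T : Subgroup (Equiv.Perm (Fin k))) :
    Subgroup (GL (Ix k 0) F) :=
  mono (r := 0) M ⊥ T ⊓ (Matrix.GeneralLinearGroup.det : GL (Ix k 0) F →* Fˣ).ker

variable {M U2 : Subgroup (GL (Fin 2) F)} {T : Subgroup (Equiv.Perm (Fin k))}

theorem bl_prm_mem_mono {f : Fin k → G2} {w : Equiv.Perm (Fin k)} (hf : ∀ a, f a ∈ M) (hw : w ∈ T) :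
    (bl f : GK) * Prm w ∈ mono (r := 0) M ⊥ T :=
  mul_mem (Subgroup.mem_sup_left ⟨(f, 1), LinearSylowTwo.mem_datSub.mpr ⟨hf, fun j => j.elim0⟩, rfl⟩)
    (Subgroup.mem_sup_right ⟨w, hw, rfl⟩)

theorem mem_mono' {g : GK} (h : g ∈ mono (r := 0) M ⊥ T) :
    ∃ f : Fin k → G2, (∀ a, f a ∈ M) ∧ ∃ w ∈ T, g = bl f * Prm w := by
  obtain ⟨⟨f, s⟩, hx, w, hw, rfl⟩ := LinearSylowTwo.mem_mono M ⊥ T h
  obtain rfl : s = 1 := funext fun j => j.elim0
  exact ⟨f, (LinearSylowTwo.mem_datSub.mp hx).1, w, hw, rfl⟩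

theorem mem_sylowSL {g : GK} :
    g ∈ sylowSL M T ↔ ∃ f : Fin k → G2, (∀ a, f a ∈ M) ∧ ∏ a, dt (f a) = 1 ∧
      ∃ w ∈ T, g = bl f * Prm w := by
  constructor
  · rintro ⟨h1, h2⟩
    obtain ⟨f, hf, w, hw, rfl⟩ := mem_mono' h1
    refine ⟨f, hf, ?_, w, hw, rfl⟩
    have := MonoidHom.mem_ker.mp h2
    rwa [map_mul, LinearSylowTwo.det_Prm, mul_one, det_bl] at this
  · rintro ⟨f, hf, hd, w, hw, rfl⟩
    exact ⟨bl_prm_mem_mono hf hw, MonoidHom.mem_ker.mpr (by
      rw [map_mul, LinearSylowTwo.det_Prm, mul_one, det_bl, hd])⟩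

theorem prod_det_mulSingle (i : Fin k) (q : G2) :
    ∏ a, dt ((Pi.mulSingle i q : Fin k → G2) a) = dt q := by
  rw [Fintype.prod_eq_single i fun a ha => by rw [Pi.mulSingle_eq_of_ne ha, map_one], Pi.mulSingle_eq_same]

/-- A conjugate of an element supported at one block, of order at least four, is block diagonal. -/
theorem perm_eq_one {g : GK} (i : Fin k) {q : G2} (hq : q * q ≠ 1) {f : Fin k → G2}
    {σ : Equiv.Perm (Fin k)} (h : g * bl (Pi.mulSingle i q) * g⁻¹ = bl f * Prm σ) : σ = 1 := by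
  classical
  by_contra hσ
  obtain ⟨i₀, hi₀⟩ : ∃ x, σ x ≠ x := by
    by_contra h'
    push Not at h'
    exact hσ (Equiv.ext h')
  set j := σ i₀ with hj
  set y : GK := bl f * Prm σ with hy
  obtain ⟨W, hW⟩ : ∃ W : Fin k → Fin k → M2, W = fun a b => blk (y.1 - 1) a b := ⟨_, rfl⟩
  have hWv : ∀ a b, W a b = (if a = σ b then (f a).1 else 0) - if a = b then 1 else 0 := fun a b => by
    rw [hW]; dsimp only; rw [blk_sub, hy, blk_bl_prm, blk_one]
  have hfac : ∀ a b, W a b = blk g.1 a i * ((q.1 - 1) * blk (g⁻¹ : GK).1 i b) := by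
    intro a b
    rw [hW]
    dsimp only
    have e : y.1 - 1 = g.1 * ((bl (Pi.mulSingle i q) : GK).1 - 1) * (g⁻¹ : GK).1 := by
      rw [Matrix.mul_sub, Matrix.sub_mul, Matrix.mul_one, ← Units.val_mul, ← Units.val_mul, ← Units.val_mul,
        h, mul_inv_cancel, Units.val_one]
    rw [e, blk_mul, Finset.sum_eq_single i ?_ (by simp), blk_mul,
      Finset.sum_eq_single i ?_ (by simp), blk_sub, blk_bl, blk_one, if_pos rfl, if_pos rfl,
      Pi.mulSingle_eq_same, mul_assoc]
    · intro c _ hc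
      rw [blk_sub, blk_bl, blk_one]
      by_cases hci : c = i
      · exact absurd hci hc
      · rw [if_neg hci, if_neg hci, sub_zero, mul_zero]
    · intro c _ hc
      rw [blk_mul, Finset.sum_eq_zero, zero_mul]
      intro d _
      rw [blk_sub, blk_bl, blk_one]
      by_cases hdc : d = c
      · rw [if_pos hdc, if_pos hdc, hdc, Pi.mulSingle_eq_of_ne hc, Units.val_one, sub_self, mul_zero]
      · rw [if_neg hdc, if_neg hdc, sub_zero, mul_zero]
  have hii : W i₀ i₀ = -1 := by rw [hWv, if_neg (Ne.symm hi₀), if_pos rfl, zero_sub]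
  -- rank two
  have hrank : ∀ a b, W a b = -(W a i₀ * W i₀ b) := by
    intro a b
    have hinv : ((q.1 - 1) * blk (g⁻¹ : GK).1 i i₀) * (-blk g.1 i₀ i) = 1 :=
      mul_eq_one_comm.mp (by rw [neg_mul, ← hfac, hii, neg_neg])
    rw [hfac a b, hfac a i₀, hfac i₀ b]
    calc blk g.1 a i * ((q.1 - 1) * blk (g⁻¹ : GK).1 i b)
        = blk g.1 a i * (((q.1 - 1) * blk (g⁻¹ : GK).1 i i₀) * (-blk g.1 i₀ i)) *
            ((q.1 - 1) * blk (g⁻¹ : GK).1 i b) := by rw [hinv, mul_one]
      _ = _ := by simp only [mul_neg, neg_mul, mul_assoc]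
  -- the other blocks are trivial
  have hfix : ∀ l, l ≠ i₀ → l ≠ j → σ l = l ∧ f l = 1 := by
    intro l hl1 hl2
    have h1 : W l i₀ = 0 := by rw [hWv, if_neg hl2, if_neg hl1, sub_zero]
    have h2 := hrank l l
    rw [h1, zero_mul, neg_zero, hWv, if_pos rfl] at h2
    by_cases hl : l = σ l
    · rw [if_pos hl, sub_eq_zero] at h2
      exact ⟨hl.symm, Units.ext h2⟩
    · rw [if_neg hl, zero_sub, neg_eq_zero] at h2
      exact absurd h2 one_ne_zero
  have hji : σ j = i₀ := by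
    by_contra hne
    have hjj : σ j ≠ j := fun e => hi₀ (σ.injective e)
    exact hjj (σ.injective (hfix (σ j) hne hjj).1)
  have hff : f j * f i₀ = 1 := by
    have h2 := hrank j j
    rw [hWv j i₀, hWv i₀ j, hWv j j, if_pos hj, if_neg hi₀, sub_zero, if_pos hji.symm,
      if_neg (Ne.symm hi₀), sub_zero, hji, if_neg hi₀, if_pos rfl, zero_sub, neg_inj] at h2
    exact Units.ext h2.symm
  have hyy : y * y = 1 := by
    apply Units.ext
    refine blk_ext fun a b => ?_
    rw [hy, show (bl f : GK) * Prm σ * (bl f * Prm σ) = bl f * (bl (f ∘ ⇑σ⁻¹) * (Prm σ * Prm σ)) by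
      rw [mul_assoc, ← mul_assoc (Prm σ), prm_bl]; group, ← map_mul, ← mul_assoc, ← map_mul,
      blk_bl_prm, Units.val_one, blk_one]
    have hσσ : ∀ c, σ (σ c) = c := by
      intro c
      by_cases hc : c = i₀
      · rw [hc, ← hj, hji]
      by_cases hc' : c = j
      · rw [hc', hji, hj]
      rw [(hfix c hc hc').1, (hfix c hc hc').1]
    rw [Equiv.Perm.mul_apply, hσσ]
    by_cases hab : a = b
    · rw [if_pos hab, if_pos hab, ← Units.val_one]
      congr 1
      subst hab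
      show f a * f (σ⁻¹ a) = 1
      rw [show σ⁻¹ a = σ a from Equiv.Perm.inv_eq_iff_eq.mpr (hσσ a).symm]
      by_cases hc : a = i₀
      · rw [hc, ← hj]; exact mul_eq_one_comm.mp hff
      by_cases hc' : a = j
      · rw [hc', hji, hff]
      · rw [(hfix a hc hc').1, (hfix a hc hc').2, one_mul]
    · rw [if_neg hab, if_neg hab]
  have h2 : g * bl (Pi.mulSingle i (q * q)) * g⁻¹ = 1 := by
    rw [Pi.mulSingle_mul, map_mul, show g * (bl (Pi.mulSingle i q) * bl (Pi.mulSingle i q)) * g⁻¹ =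
      (g * bl (Pi.mulSingle i q) * g⁻¹) * (g * bl (Pi.mulSingle i q) * g⁻¹) by group, h, hyy]
  rw [mul_inv_eq_one, mul_eq_left] at h2
  refine hq (Units.ext ?_)
  have h3 := congrArg (fun z : GK => blk z.1 i i) h2
  simp only [blk_bl, Units.val_one, blk_one, if_true, Pi.mulSingle_eq_same] at h3
  rw [h3, Units.val_one]

/-- A conjugation normalising the determinant one monomial group permutes the blocks. -/
theorem exists_block (hS : Setup U2 M) (h2 : (2 : F) ≠ 0) {g : GK}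
    (hg : g ∈ Subgroup.normalizer (sylowSL M T : Set GK)) (i : Fin k) :
    ∃ a, IsUnit (blk g.1 a i) ∧ ∀ b, b ≠ a → blk g.1 b i = 0 := by
  classical
  set P : Fin k → M2 := fun a => blk g.1 a i with hP
  set R : Fin k → M2 := fun a => blk (g⁻¹ : GK).1 i a with hR
  have hRP : ∑ a, R a * P a = 1 := by
    have := blk_mul (g⁻¹ : GK).1 g.1 i i
    rw [← Units.val_mul, inv_mul_cancel, Units.val_one, blk_one, if_pos rfl] at this
    exact this.symm
  -- the images of single block elements are block diagonal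
  have hdiag : ∀ q ∈ M, dt q = 1 → q * q ≠ 1 → ∃ f : Fin k → G2,
      g * bl (Pi.mulSingle i q) * g⁻¹ = bl f := by
    intro q hqM hqd hq
    have hmem : (bl (Pi.mulSingle i q) : GK) ∈ sylowSL M T := by
      refine mem_sylowSL.mpr ⟨Pi.mulSingle i q, fun a => ?_, by rw [prod_det_mulSingle, hqd], 1, one_mem _,
        by rw [map_one, mul_one]⟩
      by_cases ha : a = i
      · rw [ha, Pi.mulSingle_eq_same]; exact hqM
      · rw [Pi.mulSingle_eq_of_ne ha]; exact one_mem _
    obtain ⟨f, -, -, σ, -, e⟩ := mem_sylowSL.mp ((Subgroup.mem_normalizer_iff.mp hg _).mp hmem)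
    refine ⟨f, ?_⟩
    rw [e, perm_eq_one i hq e, map_one, mul_one]
  obtain ⟨a₀, ha₀, b₀, hb₀, had, hbd, hab⟩ := hS.noncomm
  have hpm : ∀ q ∈ M, dt q = 1 → q * q = 1 → q = 1 ∨ q = -1 := fun q _ hd h => sq_eq_one h2 hd h
  have h4 : ∃ q₀ ∈ M, dt q₀ = 1 ∧ q₀ * q₀ ≠ 1 := by
    by_contra h
    push Not at h
    rcases hpm a₀ ha₀ had (h a₀ ha₀ had) with e | e <;> apply hab <;> rw [e]
    · rw [one_mul, mul_one]
    · exact neg_one_mul' b₀
  have hdiag' : ∀ q ∈ M, dt q = 1 → ∃ f : Fin k → G2, g * bl (Pi.mulSingle i q) * g⁻¹ = bl f := by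
    intro q hqM hqd
    by_cases hq : q * q = 1
    · obtain ⟨q₀, hq₀M, hq₀d, hq₀⟩ := h4
      obtain ⟨f₁, e₁⟩ := hdiag (q * q₀) (mul_mem hqM hq₀M) (by rw [map_mul, hqd, hq₀d, one_mul]) (by
        rcases hpm q hqM hqd hq with e | e <;> rw [e]
        · rwa [one_mul]
        · rwa [neg_one_mul', mul_neg, mul_one, neg_mul, mul_neg, neg_neg])
      obtain ⟨f₂, e₂⟩ := hdiag q₀ hq₀M hq₀d hq₀
      refine ⟨f₁ * f₂⁻¹, ?_⟩
      rw [map_mul, map_inv, ← e₁, ← e₂, Pi.mulSingle_mul, map_mul]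
      group
    · exact hdiag q hqM hqd hq
  -- the orthogonality relations
  have horth : ∀ q ∈ M, dt q = 1 → ∀ a b, a ≠ b → P a * (q.1 - 1) * R b = 0 := by
    intro q hqM hqd a b hab'
    obtain ⟨f, e⟩ := hdiag' q hqM hqd
    have e2 : (bl f : GK).1 - 1 = g.1 * ((bl (Pi.mulSingle i q) : GK).1 - 1) * (g⁻¹ : GK).1 := by
      rw [Matrix.mul_sub, Matrix.sub_mul, Matrix.mul_one, ← Units.val_mul, ← Units.val_mul, ← Units.val_mul,
        e, mul_inv_cancel, Units.val_one]
    have e3 := congrArg (fun Z => blk Z a b) e2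
    simp only [blk_sub, blk_bl, blk_one, if_neg hab', sub_zero] at e3
    rw [e3, blk_mul, Finset.sum_eq_single i ?_ (by simp), blk_mul, Finset.sum_eq_single i ?_ (by simp)]
    · rw [blk_sub, blk_bl, blk_one, if_pos rfl, if_pos rfl, Pi.mulSingle_eq_same]
    · intro c _ hc
      rw [blk_sub, blk_bl, blk_one, if_neg hc, if_neg hc, sub_zero, mul_zero]
    · intro c _ hc
      rw [blk_mul, Finset.sum_eq_zero, zero_mul]
      intro d _
      rw [blk_sub, blk_bl, blk_one]
      by_cases hdc : d = c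
      · rw [if_pos hdc, if_pos hdc, hdc, Pi.mulSingle_eq_of_ne hc, Units.val_one, sub_self, mul_zero]
      · rw [if_neg hdc, if_neg hdc, sub_zero, mul_zero]
  have hPR : ∀ a b, a ≠ b → P a * R b = 0 := by
    intro a b hab'
    have hneg : (-1 : G2) ∈ M := by
      obtain ⟨i', hi', -, hii, -⟩ := hS.sq_pm h2
      rw [← hii]; exact mul_mem hi' hi'
    have h := horth (-1) hneg det_neg_one a b hab'
    rw [Units.val_neg, Units.val_one, show (-1 : M2) - 1 = (-2 : F) • (1 : M2) by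
      rw [neg_smul, two_smul]; abel, mul_smul_comm, mul_one, smul_mul_assoc] at h
    exact (smul_eq_zero.mp h).resolve_left (neg_ne_zero.mpr h2)
  have hPqR : ∀ q ∈ M, dt q = 1 → ∀ a b, a ≠ b → P a * q.1 * R b = 0 := fun q hqM hqd a b hab' => by
    have h := horth q hqM hqd a b hab'
    rwa [mul_sub, mul_one, sub_mul, hPR a b hab', sub_zero] at h
  -- the idempotents commute with the determinant one part
  have hcomm : ∀ q ∈ M, dt q = 1 → ∀ b, Commute q.1 (R b * P b) := by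
    intro q hqM hqd b
    have hz : ∀ a c, a ≠ c → R a * P a * q.1 * (R c * P c) = 0 := fun a c hac => by
      rw [show R a * P a * q.1 * (R c * P c) = R a * (P a * q.1 * R c) * P c by simp only [mul_assoc],
        hPqR q hqM hqd a c hac, mul_zero, zero_mul]
    have h1 : q.1 * (R b * P b) = R b * P b * q.1 * (R b * P b) := by
      conv_lhs => rw [← one_mul (q.1 * (R b * P b)), ← hRP, Finset.sum_mul]
      rw [Finset.sum_eq_single b (fun a _ ha => by rw [← mul_assoc]; exact hz a b ha) (by simp), ← mul_assoc]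
    have h3 : R b * P b * q.1 = R b * P b * q.1 * (R b * P b) := by
      conv_lhs => rw [← mul_one (R b * P b * q.1), ← hRP, Finset.mul_sum]
      rw [Finset.sum_eq_single b (fun a _ ha => hz b a ha.symm) (by simp)]
    exact h1.trans h3.symm
  have hidem : ∀ b, R b * P b * (R b * P b) = R b * P b := by
    intro b
    conv_rhs => rw [← mul_one (R b * P b), ← hRP, Finset.mul_sum]
    rw [Finset.sum_eq_single b (fun a _ ha => ?_) (by simp)]
    rw [show R b * P b * (R a * P a) = R b * (P b * R a) * P a by simp only [mul_assoc], hPR b a ha.symm,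
      mul_zero, zero_mul]
  have hscal : ∀ b, ∃ c : F, R b * P b = c • (1 : M2) := by
    intro b
    by_contra h
    push Not at h
    exact hab (Units.ext (commute_of_commute h (hcomm a₀ ha₀ had b) (hcomm b₀ hb₀ hbd b)).eq)
  obtain ⟨a, ha⟩ : ∃ a, R a * P a ≠ 0 := by
    by_contra h
    push Not at h
    rw [Finset.sum_eq_zero fun a _ => h a] at hRP
    exact one_ne_zero hRP.symm
  have hone : R a * P a = 1 := by
    obtain ⟨c, hc⟩ := hscal a
    have h5 := hidem a
    rw [hc, smul_mul_assoc, one_mul, smul_smul] at h5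
    have h6 : c * c = c := by simpa using congrFun (congrFun h5 0) 0
    have hc0 : c ≠ 0 := fun e => ha (by rw [hc, e, zero_smul])
    rw [hc, show c = 1 from mul_left_cancel₀ hc0 (h6.trans (mul_one c).symm), one_smul]
  refine ⟨a, ⟨⟨P a, R a, mul_eq_one_comm.mp hone, hone⟩, rfl⟩, fun b hb => ?_⟩
  calc P b = P b * (R a * P a) := by rw [hone, mul_one]
    _ = 0 := by rw [← mul_assoc, hPR b a hb, zero_mul]

/-- The determinant one monomial group is self-normalising. -/
theorem normalizer_sylowSL (hS : Setup U2 M) (h2 : (2 : F) ≠ 0) (hk2 : 2 ≤ k) {j : ℕ} (hkj : k = 2 ^ j)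
    (hTn : Subgroup.normalizer (T : Set (Equiv.Perm (Fin k))) ≤ T)
    (htr : ∀ a b : Fin k, ∃ w ∈ T, w a = b) {U : Subgroup GK}
    (hUB : ∀ f : Fin k → G2, bl f ∈ U ↔ ∀ a, f a ∈ U2) (hUP : ∀ w, Prm w ∈ U) {g : GK}
    (hgU : g ∈ U) (hgd : dK g = 1) (hg : g ∈ Subgroup.normalizer (sylowSL M T : Set GK)) :
    g ∈ sylowSL M T := by
  classical
  choose π hu hz using exists_block hS h2 hg
  have hinj : Function.Injective π := by
    intro l i e
    by_contra hne
    have h1 := blk_mul (g⁻¹ : GK).1 g.1 i l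
    have h3 := blk_mul (g⁻¹ : GK).1 g.1 i i
    rw [← Units.val_mul, inv_mul_cancel, Units.val_one, blk_one,
      Finset.sum_eq_single (π i) (fun c _ hc => by rw [hz l c (e ▸ hc), mul_zero]) (by simp),
      if_neg (Ne.symm hne)] at h1
    rw [← Units.val_mul, inv_mul_cancel, Units.val_one, blk_one,
      Finset.sum_eq_single (π i) (fun c _ hc => by rw [hz i c hc, mul_zero]) (by simp), if_pos rfl] at h3
    have h4 : blk g.1 (π i) l = 0 := by
      rw [← one_mul (blk g.1 (π i) l), ← mul_eq_one_comm.mp h3.symm, mul_assoc, ← h1, mul_zero]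
    exact (e ▸ hu l).ne_zero h4
  let ρ : Equiv.Perm (Fin k) := Equiv.ofBijective π (Finite.injective_iff_bijective.mp hinj)
  let x : Fin k → G2 := fun a => (hu (ρ.symm a)).unit
  have hgeq : g = bl x * Prm ρ := by
    apply Units.ext
    refine blk_ext fun a b => ?_
    rw [blk_bl_prm]
    by_cases hab : a = ρ b
    · rw [if_pos hab, hab]
      show blk g.1 (π b) b = blk g.1 (π (ρ.symm (ρ b))) (ρ.symm (ρ b))
      rw [ρ.symm_apply_apply]
    · rw [if_neg hab]
      exact hz b a hab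
  have hconjT : ∀ w ∈ T, ρ * w * ρ⁻¹ ∈ T ∧ (∀ a, x a * (x ((ρ * w * ρ⁻¹)⁻¹ a))⁻¹ ∈ M) := by
    intro w hw
    have hmem : (Prm w : GK) ∈ sylowSL M T :=
      mem_sylowSL.mpr ⟨1, fun _ => one_mem _, by simp, w, hw, by rw [map_one, one_mul]⟩
    obtain ⟨f, hf, -, w', hw', e⟩ := mem_sylowSL.mp ((Subgroup.mem_normalizer_iff.mp hg _).mp hmem)
    have e2 : g * Prm w * g⁻¹ = bl (x * (x⁻¹ ∘ ⇑(ρ * w * ρ⁻¹)⁻¹)) * Prm (ρ * w * ρ⁻¹) := by
      rw [hgeq, map_mul bl, show bl x * Prm ρ * Prm w * (bl x * Prm ρ)⁻¹ =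
        bl x * (Prm ρ * Prm w * (Prm ρ)⁻¹ * (bl x)⁻¹) by group, ← map_inv, ← map_inv, ← map_mul, ← map_mul,
        prm_bl, ← mul_assoc (bl x)]
    obtain ⟨rfl, rfl⟩ := bl_prm_inj (e.symm.trans e2)
    exact ⟨hw', fun a => hf a⟩
  have hρ : ρ ∈ T := hTn (Subgroup.mem_normalizer_fintype fun w hw => (hconjT w hw).1)
  have hg' : (bl x : GK) = g * (Prm ρ)⁻¹ := by rw [hgeq, mul_inv_cancel_right]
  have hPρ : (Prm ρ : GK) ∈ sylowSL M T :=
    mem_sylowSL.mpr ⟨1, fun _ => one_mem _, by simp, ρ, hρ, by rw [map_one, one_mul]⟩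
  have hxN : (bl x : GK) ∈ Subgroup.normalizer (sylowSL M T : Set GK) :=
    hg' ▸ mul_mem hg (inv_mem (Subgroup.le_normalizer hPρ))
  have hxU : ∀ a, x a ∈ U2 := (hUB x).mp (hg' ▸ mul_mem hgU (inv_mem (hUP ρ)))
  have hxd : ∏ a, dt (x a) = 1 := by
    rw [← det_bl, hg', map_mul, hgd, map_inv, LinearSylowTwo.det_Prm, inv_one, one_mul]
  have hquot : ∀ a b, x a * (x b)⁻¹ ∈ M := by
    intro a b
    obtain ⟨w, hw, e⟩ := htr b a
    have := (hconjT (ρ⁻¹ * w * ρ) (mul_mem (mul_mem (inv_mem hρ) hw) hρ)).2 a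
    rwa [show ρ * (ρ⁻¹ * w * ρ) * ρ⁻¹ = w by group, ← e, Equiv.Perm.inv_def, Equiv.symm_apply_apply, e] at this
  -- each entry normalises `M`
  have hnorm : ∀ a, x a ∈ Subgroup.normalizer (M : Set G2) := by
    intro a
    obtain ⟨b, hb⟩ : ∃ b, b ≠ a := by
      haveI : Nontrivial (Fin k) := Fin.nontrivial_iff_two_le.mpr hk2
      exact exists_ne a
    refine Subgroup.mem_normalizer_fintype fun m hm => ?_
    set f : Fin k → G2 := Pi.mulSingle a m * Pi.mulSingle b m⁻¹ with hfdef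
    have hfM : ∀ c, f c ∈ M := by
      intro c
      refine mul_mem ?_ ?_
      · by_cases hc : c = a
        · rw [hc, Pi.mulSingle_eq_same]; exact hm
        · rw [Pi.mulSingle_eq_of_ne hc]; exact one_mem _
      · by_cases hc : c = b
        · rw [hc, Pi.mulSingle_eq_same]; exact inv_mem hm
        · rw [Pi.mulSingle_eq_of_ne hc]; exact one_mem _
    have hmem : (bl f : GK) ∈ sylowSL M T := by
      refine mem_sylowSL.mpr ⟨f, hfM, ?_, 1, one_mem _, by rw [map_one, mul_one]⟩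
      simp only [hfdef, Pi.mul_apply, map_mul, Finset.prod_mul_distrib, prod_det_mulSingle, map_inv,
        mul_inv_cancel]
    obtain ⟨f', hf', -, w', -, e⟩ := mem_sylowSL.mp ((Subgroup.mem_normalizer_iff.mp hxN _).mp hmem)
    rw [← map_inv, ← map_mul, ← map_mul, ← mul_one (bl _), ← map_one (Prm (F := F) (k := k) (r := 0))] at e
    have := hf' a
    rw [← (bl_prm_inj e).1] at this
    simpa [hfdef, Pi.mulSingle_eq_of_ne (Ne.symm hb)] using this
  let a₀ : Fin k := ⟨0, by omega⟩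
  obtain ⟨m₀, hm₀, c, hcU, hx₀⟩ := hS.normalizer_le h2 (hxU a₀) (hnorm a₀)
  have hxa : ∀ a, x a = (x a * (x a₀)⁻¹ * m₀) * scal c := fun a => by
    rw [mul_assoc, ← hx₀, inv_mul_cancel_right]
  have hm : ∀ a, x a * (x a₀)⁻¹ * m₀ ∈ M := fun a => mul_mem (hquot a a₀) hm₀
  have hcM : scal c ∈ M := by
    have hd := hxd
    rw [Finset.prod_congr rfl (fun a _ => by rw [hxa a, map_mul, det_scal]), Finset.prod_mul_distrib,
      Finset.prod_const, Finset.card_univ, Fintype.card_fin, ← pow_mul] at hd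
    have hp : (∏ a, dt (x a * (x a₀)⁻¹ * m₀)) ∈ M.map dt :=
      Subgroup.prod_mem _ fun a _ => ⟨_, hm a, rfl⟩
    obtain ⟨n, hn⟩ := (hS.pgroup.map dt) ⟨_, hp⟩
    refine hS.scal_mem hcU (n := j + 1 + n) ?_
    have h7 := congrArg (fun z => z ^ 2 ^ n) hd
    simp only [mul_pow, one_pow] at h7
    rw [show (∏ a, dt (x a * (x a₀)⁻¹ * m₀)) ^ 2 ^ n = 1 from congrArg Subtype.val hn, one_mul, ← pow_mul,
      hkj] at h7
    rwa [pow_add, pow_add, pow_one, mul_comm (2 ^ j) 2]
  rw [hgeq]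
  exact mem_sylowSL.mpr ⟨x, fun a => hxa a ▸ mul_mem (hm a) hcM, hxd, ρ, hρ, rfl⟩

/-- All subgroups of odd index of the determinant one unitary or linear groups are pronormal. -/
theorem pronormal_block (hS : Setup U2 M) (h2 : (2 : F) ≠ 0) (hk2 : 2 ≤ k) {j : ℕ} (hkj : k = 2 ^ j)
    {U : Subgroup GK} (hUB : ∀ f : Fin k → G2, bl f ∈ U ↔ ∀ a, f a ∈ U2) (hUP : ∀ w, Prm w ∈ U)
    (hcard : 2 ^ (Nat.card U).factorization 2 ≤ Nat.card M ^ k * 2 ^ k.factorial.factorization 2)
    {H : Subgroup ↥(U ⊓ (dK).ker)} (hH : ¬ 2 ∣ H.index) : Cfsg.IsPronormal H := by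
  classical
  haveI : Fact (Nat.Prime 2) := ⟨Nat.prime_two⟩
  let T : Sylow 2 (Equiv.Perm (Fin k)) := default
  have hTc : Nat.card (T : Subgroup (Equiv.Perm (Fin k))) = 2 ^ k.factorial.factorization 2 := by
    rw [T.card_eq_multiplicity, Nat.card_perm, Nat.card_fin]
  have htr := LinearSylowTwo.transitive_of_sylow j hkj T T.isPGroup' hTc
  set P₀ := mono (r := 0) M (⊥ : Subgroup Fˣ) (T : Subgroup (Equiv.Perm (Fin k))) with hP₀
  have hP₀p : IsPGroup 2 P₀ := LinearSylowTwo.isPGroup_mono M ⊥ _ hS.pgroup IsPGroup.of_bot T.isPGroup'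
  have hP₀U : P₀ ≤ U := fun g hg => by
    obtain ⟨f, hf, w, -, rfl⟩ := mem_mono' hg
    exact mul_mem ((hUB f).mpr fun a => hS.le (hf a)) (hUP w)
  have hP'p : IsPGroup 2 (P₀.subgroupOf U) := hP₀p.of_equiv (Subgroup.subgroupOfEquivOfLe hP₀U).symm
  have hcard' : Nat.card (P₀.subgroupOf U) = 2 ^ (Nat.card U).factorization 2 := by
    refine LinearSylowTwo.two_part_subgroup hP'p ?_
    rw [Nat.card_congr (Subgroup.subgroupOfEquivOfLe hP₀U).toEquiv]
    refine hcard.trans ?_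
    have := LinearSylowTwo.card_mono (r := 0) M (⊥ : Subgroup Fˣ) (T : Subgroup (Equiv.Perm (Fin k)))
    rwa [pow_zero, mul_one, hTc] at this
  let P : Sylow 2 U := Sylow.ofCard (P₀.subgroupOf U) hcard'
  set D := (dK).ker.subgroupOf U with hD
  haveI : D.Normal := Subgroup.normal_subgroupOf
  have hPD := LinearSylowTwo.card_inf_normal D P
  set S₀ := sylowSL M (T : Subgroup (Equiv.Perm (Fin k))) with hS₀
  have hS₀le : S₀ ≤ U ⊓ (dK).ker := inf_le_inf_right _ hP₀U
  have hSc : Nat.card (S₀.subgroupOf (U ⊓ (dK).ker)) = 2 ^ (Nat.card ↥(U ⊓ (dK).ker)).factorization 2 := by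
    have e1 : ((P : Subgroup U) ⊓ D).map U.subtype = S₀ := by
      rw [Subgroup.map_inf _ _ _ U.subtype_injective,
        show ((P : Subgroup U)).map U.subtype = P₀ by
          show (P₀.subgroupOf U).map U.subtype = P₀
          rw [Subgroup.subgroupOf_map_subtype, inf_eq_left.mpr hP₀U],
        hD, Subgroup.subgroupOf_map_subtype, ← inf_assoc, inf_right_comm, inf_eq_left.mpr hP₀U]
      rfl
    have e2 : Nat.card ↥(U ⊓ (dK).ker) = Nat.card D := by
      rw [inf_comm, hD, ← Subgroup.subgroupOf_map_subtype, Subgroup.card_map_of_injective U.subtype_injective]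
    rw [Nat.card_congr (Subgroup.subgroupOfEquivOfLe hS₀le).toEquiv, ← e1,
      Subgroup.card_map_of_injective U.subtype_injective, e2]
    exact hPD
  let S : Sylow 2 ↥(U ⊓ (dK).ker) := Sylow.ofCard (S₀.subgroupOf (U ⊓ (dK).ker)) hSc
  refine pronormal_of_one S (fun K hK => pronormal_of_selfNormalizing S ?_ hK) hH
  rintro ⟨g, hgU, hgd⟩ hg
  refine normalizer_sylowSL hS h2 hk2 hkj (T := (T : Subgroup (Equiv.Perm (Fin k))))
    (CfsgLib.SymSylow.normalizer_sylow_perm T).le htr hUB hUP hgU hgd ?_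
  refine Subgroup.mem_normalizer_fintype fun y hy => ?_
  have := (Subgroup.mem_normalizer_iff.mp hg ⟨y, hS₀le hy⟩).mp hy
  exact this

end CfsgLib.PronOdd
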