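import Mathlib
import Cfsg.Agent.Lib.PronormalOddIndex.Basic

/-!
# Overgroups of a Sylow subgroup with torus and monomial group
-/

set_option autoImplicit false
set_option linter.style.haveILetI false

namespace CfsgLib.PronOdd

open CfsgLib.PronSyl

variable {G : Type*} [Group G] [Finite G] {p : ℕ} [Fact p.Prime]

/-- If the overgroup is generated by the Sylow subgroup and its part in a group normalising an
abelian complement `T` of the Sylow subgroup in its normaliser, then it is pronormal. -/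
theorem pronormal_of_torus (S : Sylow p G) {T N : Subgroup G}
    (hTc : ∀ a ∈ T, ∀ b ∈ T, a * b = b * a)
    (hTS : T ≤ Subgroup.normalizer ((S : Subgroup G) : Set G))
    (hNS : Subgroup.normalizer ((S : Subgroup G) : Set G) ≤ (S : Subgroup G) ⊔ T)
    (hNT : N ≤ Subgroup.normalizer (T : Set G)) {K : Subgroup G} (hSK : (S : Subgroup G) ≤ K)
    (hgen : K ≤ (S : Subgroup G) ⊔ (K ⊓ N)) : Cfsg.IsPronormal K := by
  classical
  refine pronormal_of_le_normalizer S hSK (hNS.trans (sup_le (hSK.trans Subgroup.le_normalizer) ?_))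
  obtain ⟨gen, hgen'⟩ : ∃ gen : Set G, gen = {x | ∃ n ∈ K ⊓ N, n⁻¹ * x * n ∈ (S : Subgroup G)} := ⟨_, rfl⟩
  set L := Subgroup.closure gen with hL
  have hLK : L ≤ K := by
    rw [hL, Subgroup.closure_le]
    intro x hx
    rw [hgen'] at hx
    obtain ⟨n, hn, h⟩ := hx
    have := K.mul_mem (K.mul_mem hn.1 (hSK h)) (K.inv_mem hn.1)
    simpa [mul_assoc] using this
  have hSL : (S : Subgroup G) ≤ L := fun x hx =>
    Subgroup.subset_closure (hgen' ▸ ⟨1, one_mem _, by simpa using hx⟩)
  have hinv : ∀ g, (∀ x ∈ gen, g * x * g⁻¹ ∈ L) → g ∈ Subgroup.normalizer (L : Set G) := by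
    intro g hg
    refine Subgroup.mem_normalizer_fintype fun y hy => ?_
    have hle : L.map (MulAut.conj g).toMonoidHom ≤ L := by
      rw [hL, MonoidHom.map_closure, Subgroup.closure_le]
      rintro _ ⟨x, hx, rfl⟩
      exact hg x hx
    exact hle ⟨y, hy, rfl⟩
  have hNL : K ⊓ N ≤ Subgroup.normalizer (L : Set G) := fun m hm => hinv m fun x hx => by
    rw [hgen'] at hx
    obtain ⟨n, hn, h⟩ := hx
    refine Subgroup.subset_closure (hgen' ▸ ⟨m * n, mul_mem hm hn, ?_⟩)
    rw [show (m * n)⁻¹ * (m * x * m⁻¹) * (m * n) = n⁻¹ * x * n by group]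
    exact h
  have hKL : K ≤ Subgroup.normalizer (L : Set G) :=
    hgen.trans (sup_le (hSL.trans Subgroup.le_normalizer) hNL)
  have hTL : T ≤ Subgroup.normalizer (L : Set G) := fun t ht => hinv t fun x hx => by
    rw [hgen'] at hx
    obtain ⟨n, hn, h⟩ := hx
    refine Subgroup.subset_closure (hgen' ▸ ⟨n, hn, ?_⟩)
    have ht' : n⁻¹ * t * n ∈ T := (Subgroup.mem_normalizer_iff''.mp (hNT hn.2) t).mp ht
    rw [show n⁻¹ * (t * x * t⁻¹) * n = (n⁻¹ * t * n) * (n⁻¹ * x * n) * (n⁻¹ * t * n)⁻¹ by group]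
    exact (Subgroup.mem_normalizer_iff.mp (hTS ht') _).mp h
  -- Frattini argument
  have hfra : K ≤ L ⊔ (K ⊓ T) := by
    intro k hk
    obtain ⟨b, hb, e⟩ := exists_conj_of_maximal S.isPGroup' (S.isPGroup'.map _)
      (fun X _ hX hS => S.is_maximal' hX hS) hSL
      ((Subgroup.map_mono hSL).trans (cj_eq_iff.mpr (hKL hk)).le : cj k (S : Subgroup G) ≤ L)
      (Subgroup.card_map_of_injective (MulAut.conj k).injective)
    have hn := hNS (cj_inv_mul_mem e)
    rw [← SetLike.mem_coe, Subgroup.coe_mul_of_right_le_normalizer_left _ _ hTS] at hn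
    obtain ⟨u, hu, t, ht, hut⟩ := hn
    have htK : t ∈ K := by
      have : u * t ∈ K := by
        show u * t ∈ K
        rw [show u * t = b⁻¹ * k from hut]
        exact mul_mem (inv_mem (hLK hb)) hk
      simpa using mul_mem (inv_mem (hSK hu)) this
    have e2 : k = b * u * t := by
      rw [mul_assoc, show u * t = b⁻¹ * k from hut, mul_inv_cancel_left]
    rw [e2]
    exact Subgroup.mul_mem_sup (mul_mem hb (hSL hu)) ⟨htK, ht⟩
  intro t ht
  refine Subgroup.mem_normalizer_fintype fun y hy => ?_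
  have hle : (L ⊔ (K ⊓ T)).map (MulAut.conj t).toMonoidHom ≤ K := by
    rw [Subgroup.map_sup]
    refine sup_le ((cj_eq_iff.mpr (hTL ht)).le.trans hLK) ?_
    rintro _ ⟨z, hz, rfl⟩
    show t * z * t⁻¹ ∈ K
    rw [hTc t ht z hz.2, mul_inv_cancel_right]
    exact hz.1
  exact hle ⟨y, hfra hy, rfl⟩

end CfsgLib.PronOdd
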