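import Mathlib
import Cfsg.Agent.Lib.PronormalOddIndex.Frattini
import Cfsg.Agent.Lib.PSLn.FusionSimple
import Cfsg.Agent.Lib.GLFlags.DoubleCoset

/-!
# Special linear groups of two-power dimension in characteristic two
-/

set_option autoImplicit false
set_option linter.style.haveILetI false
set_option linter.unusedSectionVars false

namespace CfsgLib.PronOdd

open Matrix
open CfsgLib.PSLn (upper mk upperSylow)

variable {F : Type*} [Field F] {n : ℕ}

local notation "SL" => Matrix.SpecialLinearGroup (Fin n) F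
local notation "PSL" => Matrix.ProjectiveSpecialLinearGroup (Fin n) F

/-- Supported on the graph of a permutation. -/
def IsMon (σ : Equiv.Perm (Fin n)) (A : Matrix (Fin n) (Fin n) F) : Prop := ∀ i j, i ≠ σ j → A i j = 0

theorem IsMon.mul {σ τ : Equiv.Perm (Fin n)} {A B : Matrix (Fin n) (Fin n) F} (hA : IsMon σ A)
    (hB : IsMon τ B) : IsMon (σ * τ) (A * B) := by
  intro i j hij
  rw [Matrix.mul_apply]
  refine Finset.sum_eq_zero fun l _ => ?_
  by_cases hl : l = τ j
  · rw [hA i l (fun e => hij (by rw [e, hl]; rfl)), zero_mul]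
  · rw [hB l j hl, mul_zero]

variable [Fintype F]

/-- The monomial matrices of determinant one. -/
def monSL (F : Type*) [Field F] [Fintype F] (n : ℕ) : Subgroup (Matrix.SpecialLinearGroup (Fin n) F) where
  carrier := {A | ∃ σ, IsMon σ A.1}
  one_mem' := ⟨1, fun i j h => by simp [Matrix.one_apply_ne (show i ≠ j from h)]⟩
  mul_mem' := fun ⟨σ, hA⟩ ⟨τ, hB⟩ => ⟨σ * τ, by rw [Matrix.SpecialLinearGroup.coe_mul]; exact hA.mul hB⟩
  inv_mem' := fun {A} ⟨σ, hA⟩ => by
    have h : ∀ m : ℕ, IsMon (σ ^ m) (A ^ m).1 := by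
      intro m
      induction m with
      | zero => intro i j h; simp [Matrix.one_apply_ne (show i ≠ j from h)]
      | succ m ih => rw [pow_succ, pow_succ, Matrix.SpecialLinearGroup.coe_mul]; exact ih.mul hA
    have e : A⁻¹ = A ^ (orderOf A - 1) := by
      refine inv_eq_of_mul_eq_one_right ?_
      rw [← pow_succ', Nat.sub_add_cancel (orderOf_pos A), pow_orderOf_eq_one]
    rw [e]
    exact ⟨_, h _⟩

/-- The diagonal matrices of determinant one. -/
def diagSL (F : Type*) [Field F] [Fintype F] (n : ℕ) : Subgroup (Matrix.SpecialLinearGroup (Fin n) F) where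
  carrier := {A | IsMon 1 A.1}
  one_mem' := fun i j h => by simp [Matrix.one_apply_ne (show i ≠ j from h)]
  mul_mem' := fun {A B} hA hB => by
    rw [Set.mem_ofPred_eq, Matrix.SpecialLinearGroup.coe_mul, ← mul_one (1 : Equiv.Perm (Fin n))]
    exact IsMon.mul hA hB
  inv_mem' := fun {A} hA => by
    have h : ∀ m : ℕ, IsMon 1 (A ^ m).1 := by
      intro m
      induction m with
      | zero => intro i j h; simp [Matrix.one_apply_ne (show i ≠ j from h)]
      | succ m ih =>
        rw [pow_succ, Matrix.SpecialLinearGroup.coe_mul, ← mul_one (1 : Equiv.Perm (Fin n))]; exact ih.mul hA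
    have e : A⁻¹ = A ^ (orderOf A - 1) := by
      refine inv_eq_of_mul_eq_one_right ?_
      rw [← pow_succ', Nat.sub_add_cancel (orderOf_pos A), pow_orderOf_eq_one]
    rw [e]
    exact h _

theorem diag_eq {A : SL} (hA : A ∈ diagSL F n) : A.1 = Matrix.diagonal fun i => A.1 i i := by
  ext i j
  by_cases h : i = j
  · subst h; simp
  · rw [Matrix.diagonal_apply_ne _ h]; exact hA i j h

theorem diag_comm {A B : SL} (hA : A ∈ diagSL F n) (hB : B ∈ diagSL F n) : A * B = B * A := by
  apply Subtype.ext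
  rw [Matrix.SpecialLinearGroup.coe_mul, Matrix.SpecialLinearGroup.coe_mul, diag_eq hA, diag_eq hB,
    Matrix.diagonal_mul_diagonal, Matrix.diagonal_mul_diagonal]
  simp only [mul_comm]

theorem mon_normalizes : monSL F n ≤ Subgroup.normalizer (diagSL F n : Set SL) := by
  rintro A ⟨σ, hA⟩
  refine Subgroup.mem_normalizer_fintype fun D hD => ?_
  obtain ⟨τ, hAi⟩ : ∃ τ, IsMon τ (A⁻¹ : SL).1 := inv_mem (show A ∈ monSL F n from ⟨σ, hA⟩)
  intro i j hij
  have h1 : IsMon (σ * 1 * τ) (A * D * A⁻¹ : SL).1 := by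
    rw [Matrix.SpecialLinearGroup.coe_mul, Matrix.SpecialLinearGroup.coe_mul]; exact (hA.mul hD).mul hAi
  have h2 : IsMon (σ * τ) (A * A⁻¹ : SL).1 := by
    rw [Matrix.SpecialLinearGroup.coe_mul]; exact hA.mul hAi
  rw [mul_inv_cancel] at h2
  refine h1 i j fun e => hij ?_
  rw [mul_one] at e
  by_contra hne
  have h3 : ((1 : SL).1 : Matrix (Fin n) (Fin n) F) j j = 0 := h2 j j (fun e' => hne (e.trans e'.symm))
  simp at h3

theorem diag_normalizes : diagSL F n ≤ Subgroup.normalizer (upper F n : Set SL) := by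
  intro D hD
  refine Subgroup.mem_normalizer_fintype fun u hu => ?_
  rw [SetLike.mem_coe, PSLn.mem_upper] at hu ⊢
  intro i j hij
  rw [Matrix.SpecialLinearGroup.coe_mul, Matrix.SpecialLinearGroup.coe_mul, diag_eq hD, diag_eq (inv_mem hD),
    Matrix.mul_diagonal, Matrix.diagonal_mul, hu i j hij]
  have h : (D * D⁻¹ : SL).1 i i = 1 := by rw [mul_inv_cancel]; simp
  rw [Matrix.SpecialLinearGroup.coe_mul, diag_eq hD, Matrix.diagonal_mul] at h
  by_cases e : i = j
  · subst e; rw [Matrix.one_apply_eq, mul_one]; exact h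
  · rw [Matrix.one_apply_ne e, mul_zero, zero_mul]

/-- An upper triangular matrix is a unitriangular matrix times a diagonal one. -/
theorem upper_split {M : Matrix (Fin n) (Fin n) F} (hM : ∀ i j, j < i → M i j = 0) (hdet : M.det ≠ 0) :
    (∃ u ∈ upper F n, M = u.1 * Matrix.diagonal fun i => M i i) ∧
      ∃ u ∈ upper F n, M = (Matrix.diagonal fun i => M i i) * u.1 := by
  have hMt : M.IsUpperTriangular := fun i j h => hM i j h
  rw [Matrix.det_of_upperTriangular hMt, Finset.prod_ne_zero_iff] at hdet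
  have h0 : ∀ i, M i i ≠ 0 := fun i => hdet i (Finset.mem_univ i)
  constructor
  · let u : Matrix (Fin n) (Fin n) F := M * Matrix.diagonal fun i => (M i i)⁻¹
    have hu : ∀ i j, j ≤ i → u i j = (1 : Matrix (Fin n) (Fin n) F) i j := by
      intro i j hij
      show (M * Matrix.diagonal fun i => (M i i)⁻¹) i j = _
      rw [Matrix.mul_diagonal]
      rcases hij.eq_or_lt with e | e
      · subst e; rw [Matrix.one_apply_eq, mul_inv_cancel₀ (h0 _)]
      · rw [hM i j e, zero_mul, Matrix.one_apply_ne e.ne']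
    have hdu : u.det = 1 := by
      rw [Matrix.det_of_upperTriangular (M := u) fun i j h => by
        have h' : j < i := h
        rw [hu i j h'.le, Matrix.one_apply_ne (ne_of_gt h')]]
      exact Finset.prod_eq_one fun i _ => by rw [hu i i le_rfl, Matrix.one_apply_eq]
    refine ⟨⟨u, hdu⟩, hu, ?_⟩
    show M = M * Matrix.diagonal _ * Matrix.diagonal _
    rw [Matrix.mul_assoc, Matrix.diagonal_mul_diagonal]
    simp [h0]
  · let u : Matrix (Fin n) (Fin n) F := (Matrix.diagonal fun i => (M i i)⁻¹) * M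
    have hu : ∀ i j, j ≤ i → u i j = (1 : Matrix (Fin n) (Fin n) F) i j := by
      intro i j hij
      show ((Matrix.diagonal fun i => (M i i)⁻¹) * M) i j = _
      rw [Matrix.diagonal_mul]
      rcases hij.eq_or_lt with e | e
      · subst e; rw [Matrix.one_apply_eq, inv_mul_cancel₀ (h0 _)]
      · rw [hM i j e, mul_zero, Matrix.one_apply_ne e.ne']
    have hdu : u.det = 1 := by
      rw [Matrix.det_of_upperTriangular (M := u) fun i j h => by
        have h' : j < i := h
        rw [hu i j h'.le, Matrix.one_apply_ne (ne_of_gt h')]]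
      exact Finset.prod_eq_one fun i _ => by rw [hu i i le_rfl, Matrix.one_apply_eq]
    refine ⟨⟨u, hdu⟩, hu, ?_⟩
    show M = Matrix.diagonal _ * (Matrix.diagonal _ * M)
    rw [← Matrix.mul_assoc, Matrix.diagonal_mul_diagonal]
    simp [h0]

theorem exists_bruhat_SL (A : SL) :
    ∃ u ∈ upper F n, ∃ m ∈ monSL F n, ∃ v ∈ upper F n, A = u * m * v := by
  classical
  obtain ⟨b, hb, σ, c, hc, e⟩ := GLFlags.exists_bruhat (Matrix.SpecialLinearGroup.toGL A)
  have hdet : ∀ g : GL (Fin n) F, g.1.det ≠ 0 := fun g =>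
    ((Matrix.isUnit_iff_isUnit_det _).mp g.isUnit).ne_zero
  obtain ⟨u, hu, hbu⟩ := (upper_split (M := b.1) (fun i j h => hb h) (hdet b)).1
  obtain ⟨v, hv, hcv⟩ := (upper_split (M := c.1) (fun i j h => hc h) (hdet c)).2
  have e1 : A.1 = u.1 * ((Matrix.diagonal fun i => b.1 i i) * (GLFlags.permGL σ : GL (Fin n) F).1 *
      Matrix.diagonal fun i => c.1 i i) * v.1 := by
    have e' := congrArg Units.val e
    rw [Units.val_mul, Units.val_mul, hbu, hcv] at e'
    refine e'.trans ?_
    simp only [Matrix.mul_assoc]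
  set m : SL := u⁻¹ * A * v⁻¹ with hm
  refine ⟨u, hu, m, ⟨σ, ?_⟩, v, hv, by rw [hm]; group⟩
  have hm1 : m.1 = (Matrix.diagonal fun i => b.1 i i) * (GLFlags.permGL σ : GL (Fin n) F).1 *
      Matrix.diagonal fun i => c.1 i i := by
    rw [hm, Matrix.SpecialLinearGroup.coe_mul, Matrix.SpecialLinearGroup.coe_mul, e1]
    simp only [← Matrix.mul_assoc]
    rw [← Matrix.SpecialLinearGroup.coe_mul u⁻¹ u, inv_mul_cancel, Matrix.SpecialLinearGroup.coe_one, Matrix.one_mul]
    simp only [Matrix.mul_assoc]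
    rw [← Matrix.SpecialLinearGroup.coe_mul v v⁻¹, mul_inv_cancel, Matrix.SpecialLinearGroup.coe_one, Matrix.mul_one]
  intro i j hij
  rw [hm1, Matrix.mul_diagonal, Matrix.diagonal_mul, GLFlags.permGL_apply, if_neg, mul_zero, zero_mul]
  intro e
  exact hij (by rw [← e]; simp)

theorem eq_one_of_mon_normalizes {m : SL} {σ : Equiv.Perm (Fin n)} (hm : IsMon σ m.1)
    (h : ∀ x ∈ upper F n, m * x * m⁻¹ ∈ upper F n) : σ = 1 := by
  have hne : ∀ i, m.1 (σ i) i ≠ 0 := by
    intro i h0
    have : m.1.det = 0 := Matrix.det_eq_zero_of_column_eq_zero i fun l => by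
      by_cases hl : l = σ i
      · rw [hl, h0]
      · exact hm l i hl
    rw [m.2] at this
    exact one_ne_zero this
  have hmono : StrictMono σ := by
    intro i j hij
    by_contra hle
    have h1 := h _ (PSLn.xx_mem_upper hij (1 : F))
    set u' : SL := m * PSLn.xx i j hij.ne 1 * m⁻¹ with hu'
    have e : u' * m = m * PSLn.xx i j hij.ne 1 := by rw [hu']; group
    have e' := congrFun (congrFun (congrArg Subtype.val e) (σ i)) j
    rw [PSLn.mul_xx_apply, if_pos rfl, mul_one, Matrix.SpecialLinearGroup.coe_mul, Matrix.mul_apply,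
      Finset.sum_eq_single (σ j) (fun l _ hl => by rw [hm l j hl, mul_zero]) (by simp),
      hm (σ i) j (fun e => hij.ne (σ.injective e)), zero_add,
      (PSLn.mem_upper.mp h1) (σ i) (σ j) (not_lt.mp hle),
      Matrix.one_apply_ne (fun e => hij.ne (σ.injective e)), zero_mul] at e'
    exact hne i e'.symm
  have := (hmono.range_inj strictMono_id).mp (by
    rw [Set.range_id]; exact σ.surjective.range_eq)
  exact Equiv.ext fun i => congrFun this i

/-- Odd index subgroups of `PSL_{2^w}(q)`, `q` even, are pronormal. -/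
theorem pronormal_PSL_two [CharP F 2] {w : ℕ} (hn : n = 2 ^ w) {H : Subgroup PSL} (hH : ¬ 2 ∣ H.index) :
    Cfsg.IsPronormal H := by
  classical
  haveI : Fact (Nat.Prime 2) := ⟨Nat.prime_two⟩
  haveI : Finite PSL := Quotient.finite _
  haveI : ExpChar F 2 := ExpChar.prime Nat.prime_two
  have hinj : Function.Injective (mk : SL → PSL) := by
    refine (MonoidHom.ker_eq_bot_iff _).mp ((Subgroup.eq_bot_iff_forall _).mpr fun A hA => ?_)
    have hA' : A ∈ Subgroup.center SL := (QuotientGroup.eq_one_iff _).mp hA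
    obtain ⟨r, hr1, hr⟩ := Matrix.SpecialLinearGroup.mem_center_iff.mp hA'
    rw [Fintype.card_fin, hn] at hr1
    have hr2 : r = 1 := by
      apply iterateFrobenius_inj F 2 w
      simp [iterateFrobenius_def, hr1]
    apply Subtype.ext
    rw [← hr, hr2]
    simp
  set S := upperSylow (F := F) (n := n) 2 with hS
  have hSm : ∀ A : SL, (mk A : PSL) ∈ (S : Subgroup PSL) ↔ A ∈ upper F n := by
    intro A
    rw [hS, PSLn.mem_upperSylow]
    exact ⟨fun ⟨B, hB, e⟩ => hinj e ▸ hB, fun h => ⟨A, h, rfl⟩⟩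
  have hSu : (S : Subgroup PSL) = (upper F n).map mk := by
    ext x
    obtain ⟨A, rfl⟩ := PSLn.mk_surjective x
    rw [hSm]
    exact ⟨fun h => ⟨A, h, rfl⟩, fun ⟨B, hB, e⟩ => hinj e ▸ hB⟩
  refine pronormal_of_one S (fun K hSK => ?_) hH
  refine pronormal_of_torus S (T := (diagSL F n).map mk) (N := (monSL F n).map mk) ?_ ?_ ?_ ?_ hSK ?_
  · rintro _ ⟨A, hA, rfl⟩ _ ⟨B, hB, rfl⟩
    rw [← map_mul, ← map_mul, diag_comm hA hB]
  · rw [hSu]
    exact (Subgroup.map_mono diag_normalizes).trans (Subgroup.le_normalizer_map _)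
  · intro x hx
    obtain ⟨A, rfl⟩ := PSLn.mk_surjective x
    obtain ⟨u, hu, m, ⟨σ, hm⟩, v, hv, rfl⟩ := exists_bruhat_SL A
    have hA : ∀ z ∈ upper F n, m * z * m⁻¹ ∈ upper F n := by
      intro z hz
      have hz' : v⁻¹ * z * v ∈ upper F n := mul_mem (mul_mem (inv_mem hv) hz) hv
      have h1 := (Subgroup.mem_normalizer_iff.mp hx _).mp ((hSm _).mpr hz')
      rw [← map_inv, ← map_mul, ← map_mul, hSm] at h1
      have h2 := mul_mem (mul_mem (inv_mem hu) h1) hu
      rwa [show u⁻¹ * (u * m * v * (v⁻¹ * z * v) * (u * m * v)⁻¹) * u = m * z * m⁻¹ by group] at h2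
    have hmd : m ∈ diagSL F n := by
      have h1 := eq_one_of_mon_normalizes hm hA
      subst h1
      exact hm
    rw [map_mul, map_mul]
    exact mul_mem (Subgroup.mul_mem_sup ((hSm u).mpr hu) ⟨m, hmd, rfl⟩)
      (Subgroup.mem_sup_left ((hSm v).mpr hv))
  · exact (Subgroup.map_mono mon_normalizes).trans (Subgroup.le_normalizer_map _)
  · intro x hx
    obtain ⟨A, rfl⟩ := PSLn.mk_surjective x
    obtain ⟨u, hu, m, hm, v, hv, rfl⟩ := exists_bruhat_SL A
    rw [map_mul, map_mul] at hx ⊢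
    have hmK : (mk m : PSL) ∈ K := by
      have := mul_mem (mul_mem (inv_mem (hSK ((hSm u).mpr hu))) hx) (inv_mem (hSK ((hSm v).mpr hv)))
      simpa [mul_assoc] using this
    exact mul_mem (Subgroup.mul_mem_sup ((hSm u).mpr hu) ⟨hmK, ⟨m, hm, rfl⟩⟩)
      (Subgroup.mem_sup_left ((hSm v).mpr hv))

end CfsgLib.PronOdd
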