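import Mathlib
import Cfsg.Agent.Lib.PronormalOddIndex.Basic
import Cfsg.Agent.Lib.DicksonFull.Subgroups
import Cfsg.Agent.Lib.DicksonFull.Solvabilizer
import Cfsg.Agent.Lib.SL2Char.TwoLocal

/-!
# Odd index subgroups of `PSL₂(q)`, `q` odd
-/

set_option autoImplicit false
set_option linter.style.haveILetI false
set_option linter.unusedSectionVars false

namespace CfsgLib.PronOdd

open Matrix
open CfsgLib.DicksonFull

variable {F : Type*} [Field F] [Fintype F]

local notation "SL2" => Matrix.SpecialLinearGroup (Fin 2) F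
local notation "PSL" => Matrix.ProjectiveSpecialLinearGroup (Fin 2) F
local notation "q" => Fintype.card F

/-- Groups of subfield type have even order. -/
theorem even_card_subfield (K : Type) [Field K] [Fintype K] :
    2 ∣ Nat.card (Matrix.ProjectiveSpecialLinearGroup (Fin 2) K) ∧
      2 ∣ Nat.card (Matrix.ProjGenLinGroup (Fin 2) K) := by
  have h1 := Fintype.one_lt_card (α := K)
  have key : 2 ∣ Fintype.card K * (Fintype.card K ^ 2 - 1) ∧
      (Fintype.card K % 2 = 1 → 4 ∣ Fintype.card K * (Fintype.card K ^ 2 - 1)) := by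
    rcases Nat.mod_two_eq_zero_or_one (Fintype.card K) with h | h
    · exact ⟨(Nat.dvd_of_mod_eq_zero h).mul_right _, fun h' => by omega⟩
    · have h4 : 4 ∣ Fintype.card K ^ 2 - 1 := by
        obtain ⟨s, hs⟩ : ∃ s, Fintype.card K = 2 * s + 1 := ⟨Fintype.card K / 2, by omega⟩
        refine ⟨s * (s + 1), ?_⟩
        rw [hs]
        have : (2 * s + 1) ^ 2 = 4 * (s * (s + 1)) + 1 := by ring
        omega
      exact ⟨((show 2 ∣ 4 by norm_num).trans h4).mul_left _, fun _ => h4.mul_left _⟩
  have h2 : Nat.gcd 2 (Fintype.card K - 1) * Nat.card (Matrix.ProjectiveSpecialLinearGroup (Fin 2) K) =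
      Fintype.card K * (Fintype.card K ^ 2 - 1) := by
    rw [SLCard.gcd_mul_card_PSL (by norm_num), SLCard.card_SL_two]
  refine ⟨?_, ?_⟩
  · rcases Nat.mod_two_eq_zero_or_one (Fintype.card K) with h | h
    · have hg : Nat.gcd 2 (Fintype.card K - 1) = 1 :=
        (Nat.prime_two.coprime_iff_not_dvd.mpr (by omega))
      rw [hg, one_mul] at h2
      rw [h2]
      exact key.1
    · have hg : Nat.gcd 2 (Fintype.card K - 1) = 2 := Nat.gcd_eq_left (by omega)
      rw [hg] at h2
      obtain ⟨c, hc⟩ := key.2 h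
      exact ⟨c, by omega⟩
  · rw [SLCard.card_PGL, SLCard.card_SL_two]
    exact key.1

/-- In the case `q ≡ ±3 (mod 8)`, odd order subgroups normalised by a subgroup of order four are cyclic. -/
theorem isCyclic_of_normalized (h8 : q % 8 = 3 ∨ q % 8 = 5) {V O : Subgroup PSL} (hV : Nat.card V = 4)
    (hO : ¬ 2 ∣ Nat.card O) (hVO : V ≤ Subgroup.normalizer (O : Set PSL)) : IsCyclic O := by
  classical
  obtain ⟨p, hp⟩ := CharP.exists F
  haveI := hp
  haveI : Fact p.Prime := ⟨CharP.char_is_prime F p⟩
  haveI : Finite PSL := Quotient.finite _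
  have hne : O ≠ ⊤ := by
    intro e
    apply hO
    rw [e, Subgroup.card_top]
    exact (show 2 ∣ 4 by norm_num).trans (hV ▸ Subgroup.card_subgroup_dvd_card V)
  rcases proper_cases p hne with ⟨k, -, ⟨hc, -⟩ | ⟨⟨e⟩⟩⟩ | ⟨⟨e⟩⟩ | ⟨⟨e⟩⟩ | ⟨⟨e⟩⟩ | ⟨u, hu, hle⟩ |
    ⟨Q, m, K, hK, hK', -, -, -, -, -, -, hiso⟩
  · exact hc
  · exact absurd (by rw [Nat.card_congr e.toEquiv, DihedralGroup.nat_card]; exact dvd_mul_right 2 k) hO
  · exact absurd (by rw [Nat.card_congr e.toEquiv, Nat.card_eq_fintype_card]; decide) hO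
  · exact absurd (by rw [Nat.card_congr e.toEquiv, Nat.card_eq_fintype_card]; decide) hO
  · exact absurd (by rw [Nat.card_congr e.toEquiv, Nat.card_eq_fintype_card]; decide) hO
  · by_cases hex : ∃ v ∈ O, orderOf v = p
    · exfalso
      obtain ⟨v, hvO, hv⟩ := hex
      have hcom : ∀ y ∈ O, y ^ p = 1 → y ∈ cent u := fun y hy hyp => mem_cent_of_mem_bor p hu (hle hy) hyp
      have hv1 : v ≠ 1 := fun e => (Fact.out : p.Prime).ne_one (by rw [← hv, e, orderOf_one])
      have hvu : cent v = cent u :=
        cent_eq (psl p) hu hv (mem_cent.mp (hcom v hvO (by rw [← hv]; exact pow_orderOf_eq_one v)))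
      have hVb : V ≤ bor u := by
        intro x hx
        have hxO : x * v * x⁻¹ ∈ O := (Subgroup.mem_normalizer_iff.mp (hVO hx) v).mp hvO
        have hxv : orderOf (x * v * x⁻¹) = p := by
          rw [← hv]; exact orderOf_injective (MulAut.conj x).toMonoidHom (MulAut.conj x).injective v
        have h1 : Commute (x * v * x⁻¹) v := by
          have := hcom _ hxO (by rw [← hxv]; exact pow_orderOf_eq_one _)
          rw [← hvu] at this
          exact mem_cent.mp this
        have h2 : x ∈ bor v := (mem_bor (psl p) hv).mpr h1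
        show x ∈ Subgroup.normalizer (cent u : Set PSL)
        rw [← hvu]
        exact h2
      have hd : 4 ∣ Nat.card (bor u : Subgroup PSL) := hV ▸ Subgroup.card_dvd_of_le hVb
      have hc := card_bor p hu
      rcases gcd_cases (F := F) p with ⟨-, h0⟩ | ⟨hg, -⟩
      · omega
      rw [hg] at hc
      obtain ⟨s, hs⟩ := hd
      rw [hs] at hc
      have h9 : q * (q - 1) % 8 = 0 := by omega
      rcases h8 with h | h
      · rw [Nat.mul_mod, h, show (q - 1) % 8 = 2 by omega] at h9; norm_num at h9
      · rw [Nat.mul_mod, h, show (q - 1) % 8 = 4 by omega] at h9; norm_num at h9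
    · push Not at hex
      haveI : IsCyclic O := by
        by_cases hbot : O = ⊥
        · subst hbot; infer_instance
        obtain ⟨⟨x, hx⟩, hx1⟩ := Subgroup.ne_bot_iff_exists_ne_one.mp hbot
        have hss : ∀ y ∈ O, y ≠ 1 → SS p y := fun y hy hy1 =>
          ((psl p).order_cases y hy1).resolve_right (hex y hy)
        have hxs := hss x hx fun e => hx1 (Subtype.ext e)
        have hcom : ∀ y ∈ O, ∀ z ∈ O, y * z = z * y := by
          intro y hy z hz
          have h1 : Commute (y * z * y⁻¹ * z⁻¹) u :=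
            (psl p).borel_comm u y z hu ((mem_bor (psl p) hu).mp (hle hy)) ((mem_bor (psl p) hu).mp (hle hz))
          obtain ⟨c, hc⟩ : ∃ c, c = y * z * y⁻¹ * z⁻¹ := ⟨_, rfl⟩
          rw [← hc] at h1
          have h2 : c ^ p = 1 := ((psl p).u_cen u c c hu h1 h1).2
          by_contra hne'
          have hc1 : c ≠ 1 := fun e => hne' (by
            rw [e, eq_comm, mul_inv_eq_one, mul_inv_eq_iff_eq_mul] at hc
            exact hc)
          refine hex c (hc ▸ ?_) (orderOf_eq_prime h2 hc1)
          exact O.mul_mem (O.mul_mem (O.mul_mem hy hz) (O.inv_mem hy)) (O.inv_mem hz)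
        have hsub : O ≤ (psl p).T x := fun y hy => by
          by_cases hy1 : y = 1
          · rw [hy1]; exact one_mem _
          · exact (psl p).borel_torus u x y hu hxs (hss y hy hy1) ((mem_bor (psl p) hu).mp (hle hx))
              ((mem_bor (psl p) hu).mp (hle hy)) (hcom y hy x hx)
        haveI := (psl p).T_cyclic x hxs
        exact Subgroup.isCyclic_of_le hsub
      infer_instance
  · exfalso
    rcases hiso with ⟨⟨e⟩⟩ | ⟨⟨e⟩⟩ <;> apply hO <;> rw [Nat.card_congr e.toEquiv]
    · exact (even_card_subfield K).1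
    · exact (even_card_subfield K).2

/-- Odd index subgroups of `PSL₂(q)`, `q` odd, are pronormal. -/
theorem pronormal_PSL2 (hodd : Odd q) {H : Subgroup PSL} (hH : ¬ 2 ∣ H.index) : Cfsg.IsPronormal H := by
  classical
  haveI : Fact (Nat.Prime 2) := ⟨Nat.prime_two⟩
  haveI : Finite PSL := Quotient.finite _
  let S : Sylow 2 SL2 := default
  obtain ⟨T⟩ := SL2Tori.exists_frame hodd S
  have hq2 : q % 2 = 1 := Nat.odd_iff.mp hodd
  let π : SL2 →* PSL := QuotientGroup.mk' _
  have hπ : Function.Surjective π := QuotientGroup.mk'_surjective _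
  by_cases h17 : q % 8 = 1 ∨ q % 8 = 7
  · refine pronormal_of_surjective π hπ (fun K hK => pronormal_of_one S (fun K hSK => ?_) hK) hH
    exact pronormal_of_selfNormalizing S (T.normalizer_eq_of_big hodd (T.hk8.mpr h17)).le hSK
  have h35 : q % 8 = 3 ∨ q % 8 = 5 := by omega
  have hk : T.k = 2 := by
    have := T.hk
    by_contra hne
    have := T.hk8.mp (by omega)
    omega
  have hidx := SL2Tori.normalizer_index_three hodd S T hk
  set S' := S.mapSurjective hπ with hS'
  have hZS : (Subgroup.center SL2) ≤ (S : Subgroup SL2) := by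
    intro z hz
    have hzp : IsPGroup 2 (Subgroup.center SL2) := by
      intro x
      refine ⟨1, Subtype.ext ?_⟩
      obtain ⟨r, hr1, hr⟩ := Matrix.SpecialLinearGroup.mem_center_iff.mp x.2
      rw [pow_one, Subgroup.coe_pow, Subgroup.coe_one]
      apply Subtype.ext
      rw [Matrix.SpecialLinearGroup.coe_pow, ← hr, Matrix.scalar_apply, Matrix.diagonal_pow]
      rw [Fintype.card_fin] at hr1
      simp [Pi.pow_def, hr1]
    exact (S.is_maximal' (hzp.to_sup_of_normal_left S.isPGroup') le_sup_right).le (Subgroup.mem_sup_left hz)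
  have hcomap : ((S' : Subgroup PSL)).comap π = (S : Subgroup SL2) := by
    rw [hS', Sylow.coe_mapSurjective, Subgroup.comap_map_eq_self]
    show π.ker ≤ _
    rw [QuotientGroup.ker_mk']
    exact hZS
  have hcard4 : Nat.card (S' : Subgroup PSL) = 4 := by
    have hc : Nat.card (S : Subgroup SL2) = Nat.card π.ker * Nat.card (S' : Subgroup PSL) := by
      rw [← hcomap]
      refine Nat.eq_of_mul_eq_mul_right (Nat.pos_of_ne_zero (Subgroup.index_ne_zero_of_finite
        (H := (S' : Subgroup PSL)))) ?_
      have h1 := (((S' : Subgroup PSL)).comap π).card_mul_index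
      rw [Subgroup.index_comap_of_surjective _ hπ] at h1
      have h2 := π.ker.card_mul_index
      rw [Subgroup.index_ker, MonoidHom.range_eq_top.mpr hπ, Subgroup.card_top] at h2
      rw [h1, mul_assoc, Subgroup.card_mul_index, h2]
    have hker : Nat.card π.ker = 2 := by
      have h1 := π.ker.card_mul_index
      rw [Subgroup.index_ker, MonoidHom.range_eq_top.mpr hπ, Subgroup.card_top] at h1
      have h2 : Nat.gcd 2 (q - 1) * Nat.card PSL = Nat.card SL2 := SLCard.gcd_mul_card_PSL (by norm_num)
      rw [Nat.gcd_eq_left (show 2 ∣ q - 1 by omega)] at h2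
      exact Nat.eq_of_mul_eq_mul_right Nat.card_pos (h1.trans h2.symm)
    rw [T.hS, hk, hker] at hc
    omega
  refine pronormal_of_one S' (fun K hK => pronormal_of_abelian S' ?_ ?_ ?_ hK) hH
  · intro a ha b hb
    haveI : IsMulCommutative (S' : Subgroup PSL) := IsPGroup.isMulCommutative_of_card_eq_prime_sq (p := 2) hcard4
    exact congrArg Subtype.val (mul_comm' (⟨a, ha⟩ : (S' : Subgroup PSL)) ⟨b, hb⟩)
  · have h1 : (S' : Subgroup PSL).relIndex (Subgroup.normalizer ((S' : Subgroup PSL) : Set PSL)) =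
        (S : Subgroup SL2).relIndex (Subgroup.normalizer ((S : Subgroup SL2) : Set SL2)) := by
      rw [← hcomap, ← Subgroup.comap_normalizer_eq_of_surjective _ hπ, Subgroup.relIndex_comap,
        Subgroup.map_comap_eq_self_of_surjective hπ]
    show ((S' : Subgroup PSL).relIndex _).Prime
    rw [h1]
    have h2 := ((S : Subgroup SL2).subgroupOf (Subgroup.normalizer ((S : Subgroup SL2) : Set SL2))).card_mul_index
    rw [Nat.card_congr (Subgroup.subgroupOfEquivOfLe Subgroup.le_normalizer).toEquiv, hidx, mul_comm 3] at h2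
    rw [show (S : Subgroup SL2).relIndex (Subgroup.normalizer ((S : Subgroup SL2) : Set SL2)) = 3 from
      Nat.eq_of_mul_eq_mul_left Nat.card_pos h2]
    exact Nat.prime_three
  · intro O hO hSO
    exact isCyclic_of_normalized h35 hcard4 hO hSO

end CfsgLib.PronOdd
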