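import Mathlib
import Cfsg.Agent.Lib.PronormalOddIndex.Blocks

/-!
# Special linear groups of two-power dimension in odd characteristic
-/

set_option autoImplicit false
set_option linter.style.haveILetI false
set_option linter.unusedSectionVars false

namespace CfsgLib.PronOdd

open Matrix
open CfsgLib.LinearSylowTwo (Ix)

variable {F : Type*} [Field F]

local notation "M2" => Matrix (Fin 2) (Fin 2) F
local notation "G2" => GL (Fin 2) F
local notation "dt" => (Matrix.GeneralLinearGroup.det : GL (Fin 2) F →* Fˣ)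

/-- Two generators of a quaternion-like group. -/
theorem isPGroup_pair {a b : G2} (ha : a * a = -1) (hb : b * b = -1) (hba : b * a * b⁻¹ = a⁻¹) :
    IsPGroup 2 ↥(Subgroup.zpowers a ⊔ Subgroup.zpowers b) := by
  have h4 : ∀ x : G2, x * x = -1 → IsPGroup 2 (Subgroup.zpowers x) := by
    intro x hx
    rintro ⟨z, n, rfl⟩
    refine ⟨2, Subtype.ext ?_⟩
    show (x ^ n) ^ 2 ^ 2 = 1
    rw [← _root_.zpow_natCast, ← _root_.zpow_mul, mul_comm, _root_.zpow_mul, _root_.zpow_natCast,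
      show x ^ 2 ^ 2 = 1 by
        rw [show (2 : ℕ) ^ 2 = 2 * 2 by norm_num, pow_mul, _root_.sq x, hx, _root_.sq, mul_neg, mul_one, neg_neg],
      _root_.one_zpow]
  refine IsPGroup.to_sup_of_normal_left' (h4 a ha) (h4 b hb) (Subgroup.zpowers_le.mpr ?_)
  rw [Subgroup.mem_normalizer_iff]
  intro z
  have e : ∀ m : ℤ, b * a ^ m * b⁻¹ = a ^ (-m) := fun m => by
    rw [← conj_zpow, hba, _root_.inv_zpow, ← _root_.zpow_neg]
  constructor
  · rintro ⟨m, rfl⟩
    exact ⟨-m, (e m).symm⟩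
  · rintro ⟨m, hm⟩
    replace hm : a ^ m = b * z * b⁻¹ := hm
    refine ⟨-m, ?_⟩
    show a ^ (-m) = z
    have h1 := e (-m)
    rw [neg_neg] at h1
    exact mul_left_cancel (mul_right_cancel (h1.trans hm))

variable [Fintype F] [DecidableEq F]

/-- A two-element of a group of scalars which is not a square there. -/
theorem exists_nonsquare_two (C : Subgroup Fˣ) (h2 : (2 : F) ≠ 0) (hC : (-1 : Fˣ) ∈ C) :
    ∃ a ∈ C, (∃ n, a ^ 2 ^ n = 1) ∧ ∀ c ∈ C, a ≠ c ^ 2 := by
  have hni : ¬ Function.Injective fun c : C => c ^ 2 := by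
    intro h
    have h1 : (⟨-1, hC⟩ : C) = 1 := h (Subtype.ext (by simp))
    have h3 : ((-1 : Fˣ) : F) = ((1 : Fˣ) : F) := congrArg (fun c : C => ((c : Fˣ) : F)) h1
    rw [Units.val_neg, Units.val_one] at h3
    exact h2 (by linear_combination -h3)
  obtain ⟨η, hη⟩ : ∃ η : C, ∀ c : C, c ^ 2 ≠ η := by
    by_contra h
    push Not at h
    exact hni (Finite.injective_iff_surjective.mpr h)
  obtain ⟨a, b, e, ha, hb, ⟨n, han⟩, N, hN, hbN⟩ := exists_two_parts η
  refine ⟨a, a.2, ⟨n, congrArg Subtype.val han⟩, fun c hc hac => ?_⟩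
  obtain ⟨s, rfl⟩ : ∃ s, N = 2 * s + 1 := ⟨N / 2, by omega⟩
  have hb2 : (b ^ (s + 1)) ^ 2 = b := by
    rw [← pow_mul, show (s + 1) * 2 = 2 * s + 1 + 1 by ring, pow_succ, hbN, one_mul]
  refine hη (⟨c, hc⟩ * b ^ (s + 1)) ?_
  rw [mul_pow, hb2, e]
  congr 1
  exact Subtype.ext hac.symm

/-- The setup for a Sylow `2`-subgroup. -/
theorem exists_setup (U2 : Subgroup G2) (h2 : (2 : F) ≠ 0) {a b : G2} (haU : a ∈ U2) (hbU : b ∈ U2)
    (had : dt a = 1) (hbd : dt b = 1) (ha : a * a = -1) (hb : b * b = -1) (hba : b * a * b⁻¹ = a⁻¹)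
    {t : G2} (htU : t ∈ U2) {n : ℕ} (htn : t ^ 2 ^ n = 1)
    (hns : ∀ c : Fˣ, scal c ∈ U2 → dt t ≠ c ^ 2) :
    ∃ M, Setup U2 M ∧ Nat.card M = 2 ^ (Nat.card U2).factorization 2 := by
  classical
  haveI : Fact (Nat.Prime 2) := ⟨Nat.prime_two⟩
  set D := Subgroup.zpowers a ⊔ Subgroup.zpowers b with hD
  have hDU : D ≤ U2 := sup_le (Subgroup.zpowers_le.mpr haU) (Subgroup.zpowers_le.mpr hbU)
  obtain ⟨P, hP⟩ := ((isPGroup_pair ha hb hba).of_equiv (Subgroup.subgroupOfEquivOfLe hDU).symm).exists_le_sylow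
  set M := (P : Subgroup U2).map U2.subtype with hM
  have hMU : M ≤ U2 := Subgroup.map_subtype_le _
  have hDM : D ≤ M := fun x hx =>
    ⟨⟨x, hDU hx⟩, hP (show (⟨x, hDU hx⟩ : U2) ∈ D.subgroupOf U2 from hx), rfl⟩
  have hmax : ∀ X : Subgroup G2, X ≤ U2 → IsPGroup 2 X → M ≤ X → X = M := by
    intro X hXU hX hMX
    have : X.subgroupOf U2 = (P : Subgroup U2) :=
      P.3 (hX.of_equiv (Subgroup.subgroupOfEquivOfLe hXU).symm) fun x hx => hMX ⟨x, hx, rfl⟩
    rw [hM, ← this, Subgroup.subgroupOf_map_subtype, inf_eq_left.mpr hXU]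
  refine ⟨M, ⟨hMU, P.isPGroup'.map _, fun x hxU hxN hx2 => ?_, ?_, ?_⟩, ?_⟩
  · obtain ⟨m, hm⟩ := hx2
    have hxp : IsPGroup 2 (Subgroup.zpowers x) := by
      rintro ⟨z, k, rfl⟩
      refine ⟨m, Subtype.ext ?_⟩
      show (x ^ k) ^ 2 ^ m = 1
      rw [← _root_.zpow_natCast, ← _root_.zpow_mul, mul_comm, _root_.zpow_mul, _root_.zpow_natCast, hm,
        _root_.one_zpow]
    rw [← hmax (M ⊔ Subgroup.zpowers x) (sup_le hMU (Subgroup.zpowers_le.mpr hxU))
      (IsPGroup.to_sup_of_normal_left' (P.isPGroup'.map _) hxp (Subgroup.zpowers_le.mpr hxN)) le_sup_left]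
    exact Subgroup.mem_sup_right (Subgroup.mem_zpowers x)
  · refine ⟨a, hDM (Subgroup.mem_sup_left (Subgroup.mem_zpowers a)),
      b, hDM (Subgroup.mem_sup_right (Subgroup.mem_zpowers b)), had, hbd, fun e => ?_⟩
    rw [← e, mul_inv_cancel_right] at hba
    rw [← mul_eq_one_iff_eq_inv] at hba
    rw [ha] at hba
    have h3 : ((-1 : G2).1 : M2) 0 0 = ((1 : G2).1 : M2) 0 0 := by rw [hba]
    simp at h3
    exact h2 (by linear_combination -h3)
  · have htp : IsPGroup 2 (Subgroup.zpowers (⟨t, htU⟩ : U2)) := by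
      rintro ⟨z, k, rfl⟩
      refine ⟨n, Subtype.ext (Subtype.ext ?_)⟩
      show (t ^ k) ^ 2 ^ n = 1
      rw [← _root_.zpow_natCast, ← _root_.zpow_mul, mul_comm, _root_.zpow_mul, _root_.zpow_natCast, htn,
        _root_.one_zpow]
    obtain ⟨Q, hQ⟩ := htp.exists_le_sylow
    obtain ⟨g, hg⟩ := MulAction.exists_smul_eq U2 Q P
    obtain ⟨x, hx⟩ : ∃ x : U2, x = MulAut.conj g ⟨t, htU⟩ := ⟨_, rfl⟩
    have hxP : x ∈ (P : Subgroup U2) := by
      rw [← hg, Sylow.coe_subgroup_smul, hx]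
      exact Subgroup.smul_mem_pointwise_smul _ _ _ (hQ (Subgroup.mem_zpowers _))
    refine ⟨U2.subtype x, Subgroup.mem_map_of_mem _ hxP, fun c hc => ?_⟩
    rw [hx, MulAut.conj_apply, map_mul, map_mul, map_inv, map_mul, map_mul, map_inv, mul_inv_cancel_comm]
    exact hns c hc
  · rw [hM, Subgroup.card_map_of_injective U2.subtype_injective, P.card_eq_multiplicity]

/-- The determinant one part of the general linear group, as the special linear group. -/
theorem exists_surjective_SL {ι : Type*} [Fintype ι] [DecidableEq ι] {n : ℕ} (e : Fin n ≃ ι) :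
    ∃ φ : ↥((⊤ : Subgroup (GL ι F)) ⊓ (Matrix.GeneralLinearGroup.det : GL ι F →* Fˣ).ker) →*
      Matrix.SpecialLinearGroup (Fin n) F, Function.Surjective φ := by
  let r := LinearSylowTwo.glReindex (F := F) e.symm
  let φ0 : GL ι F →* GL (Fin n) F := r.toMonoidHom
  have hd : ∀ g : GL ι F, Matrix.GeneralLinearGroup.det (φ0 g) = Matrix.GeneralLinearGroup.det g := fun g => by
    apply Units.ext
    show (LinearSylowTwo.glReindex e.symm g).1.det = g.1.det
    rw [LinearSylowTwo.glReindex_val, Matrix.det_submatrix_equiv_self]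
  refine ⟨
    { toFun := fun g => ⟨(φ0 g.1).1, by
        have h := congrArg Units.val ((hd g.1).trans (MonoidHom.mem_ker.mp g.2.2))
        exact h⟩
      map_one' := Subtype.ext (by simp)
      map_mul' := fun g h => Subtype.ext (by
        show (φ0 (g.1 * h.1)).1 = (φ0 g.1).1 * (φ0 h.1).1
        rw [map_mul, Units.val_mul]) }, fun s => ?_⟩
  refine ⟨⟨r.symm (Matrix.SpecialLinearGroup.toGL s), Subgroup.mem_top _, MonoidHom.mem_ker.mpr ?_⟩,
    Subtype.ext ?_⟩
  · rw [← hd]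
    show Matrix.GeneralLinearGroup.det (r (r.symm _)) = 1
    rw [MulEquiv.apply_symm_apply]
    exact Units.ext s.2
  · show ((r (r.symm (Matrix.SpecialLinearGroup.toGL s))).1 : Matrix (Fin n) (Fin n) F) = s.1
    rw [MulEquiv.apply_symm_apply]
    rfl

/-- Odd index subgroups of `SL_{2k}(q)`, `q` odd and `k ≥ 2` a power of `2`, are pronormal. -/
theorem pronormal_SL_odd (h2 : (2 : F) ≠ 0) {n k j : ℕ} (hn : n = 2 * k) (hkj : k = 2 ^ j) (hk2 : 2 ≤ k)
    {H : Subgroup (Matrix.SpecialLinearGroup (Fin n) F)} (hH : ¬ 2 ∣ H.index) : Cfsg.IsPronormal H := by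
  classical
  haveI : Fact (Nat.Prime 2) := ⟨Nat.prime_two⟩
  obtain ⟨p, hp⟩ := CharP.exists F
  haveI := hp
  haveI : Fact p.Prime := ⟨CharP.char_is_prime F p⟩
  obtain ⟨α₀, β₀, hαβ⟩ := ZMod.sq_add_sq p (-1)
  obtain ⟨α, β, h⟩ : ∃ α β : F, α ^ 2 + β ^ 2 = -1 :=
    ⟨ZMod.castHom dvd_rfl F α₀, ZMod.castHom dvd_rfl F β₀, by
      rw [← map_pow, ← map_pow, ← map_add, hαβ, map_neg, map_one]⟩
  let a : G2 := GeneralLinearGroup.mkOfDetNeZero !![0, 1; -1, 0] (by simp [Matrix.det_fin_two_of])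
  let b : G2 := GeneralLinearGroup.mkOfDetNeZero !![α, β; β, -α] (by
    simp only [Matrix.det_fin_two_of]
    intro h0
    exact one_ne_zero (show (1 : F) = 0 by linear_combination h0 + h))
  have had : dt a = 1 := Units.ext (by
    show (!![(0 : F), 1; -1, 0]).det = 1
    simp [Matrix.det_fin_two_of])
  have hbd : dt b = 1 := Units.ext (by
    show (!![α, β; β, -α]).det = 1
    rw [Matrix.det_fin_two_of]; linear_combination -h)
  have haa : a * a = -1 := Units.ext (by
    show !![(0 : F), 1; -1, 0] * !![0, 1; -1, 0] = -1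
    ext i l; fin_cases i <;> fin_cases l <;> simp [Matrix.mul_apply, Fin.sum_univ_two])
  have hbb : b * b = -1 := Units.ext (by
    show !![α, β; β, -α] * !![α, β; β, -α] = -1
    ext i l; fin_cases i <;> fin_cases l <;> simp [Matrix.mul_apply, Fin.sum_univ_two] <;>
      first | linear_combination h | ring)
  have hba : b * a * b⁻¹ = a⁻¹ := by
    rw [show a⁻¹ = -a from inv_eq_of_mul_eq_one_right (by rw [mul_neg, haa, neg_neg]), mul_inv_eq_iff_eq_mul]
    exact Units.ext (by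
      show !![α, β; β, -α] * !![(0 : F), 1; -1, 0] = -!![(0 : F), 1; -1, 0] * !![α, β; β, -α]
      ext i l; fin_cases i <;> fin_cases l <;> simp [Matrix.mul_apply, Fin.sum_univ_two])
  obtain ⟨c, -, ⟨n', hcn⟩, hc⟩ := exists_nonsquare_two (⊤ : Subgroup Fˣ) h2 (Subgroup.mem_top _)
  let t : G2 := GeneralLinearGroup.mkOfDetNeZero !![(c : F), 0; 0, 1] (by simp [Matrix.det_fin_two_of])
  have htd : dt t = c := Units.ext (by
    show (!![(c : F), 0; 0, 1]).det = c
    simp [Matrix.det_fin_two_of])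
  have htp : ∀ m : ℕ, (t ^ m).1 = !![(c : F) ^ m, 0; 0, 1] := fun m => by
    induction m with
    | zero => simp [Matrix.one_fin_two]
    | succ m ih =>
      rw [pow_succ, Units.val_mul, ih]
      show !![(c : F) ^ m, 0; 0, 1] * !![(c : F), 0; 0, 1] = _
      rw [Matrix.mul_fin_two, pow_succ]; simp
  obtain ⟨M, hS, hMc⟩ := exists_setup ⊤ h2 (Subgroup.mem_top a) (Subgroup.mem_top b) had hbd haa hbb hba
    (Subgroup.mem_top t) (n := n') (Units.ext (by
      rw [htp, ← Units.val_pow_eq_pow_val, hcn, Units.val_one, Units.val_one, Matrix.one_fin_two]))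
    (fun d _ => htd ▸ hc d (Subgroup.mem_top _))
  have hcard : 2 ^ (Nat.card (⊤ : Subgroup (GL (Ix k 0) F))).factorization 2 ≤
      Nat.card M ^ k * 2 ^ k.factorial.factorization 2 := by
    rw [Subgroup.card_top, LinearSylowTwo.v2_GL_Ix h2 (Nat.zero_le 1), hMc, Subgroup.card_top,
      (LinearSylowTwo.v2_GL2 h2).1, ← pow_mul, ← pow_add]
    refine Nat.pow_le_pow_right (by norm_num) (le_of_eq ?_)
    ring
  obtain ⟨φ, hφ⟩ := exists_surjective_SL (F := F) (Fintype.equivOfCardEq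
    (show Fintype.card (Fin n) = Fintype.card (Ix k 0) by simp [hn]))
  exact pronormal_of_surjective φ hφ (fun K hK => pronormal_block hS h2 hk2 hkj
    (fun f => by simp) (fun w => Subgroup.mem_top _) hcard hK) hH

end CfsgLib.PronOdd
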