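import Mathlib
import Cfsg.Agent.Lib.PronormalOddIndex.Linear
import Cfsg.Agent.Lib.Fusion.PSUSplit
import Cfsg.Agent.Lib.Fusion.GUTwoSylow
import Cfsg.Agent.Lib.UnitaryOrder

/-!
# Special unitary groups of two-power dimension in odd characteristic
-/

set_option autoImplicit false
set_option linter.style.haveILetI false
set_option linter.unusedSectionVars false

namespace CfsgLib.PronOdd

open Matrix
open CfsgLib.LinearSylowTwo (Ix Prm Prm_val glReindex glReindex_val)

variable {F : Type*} [Field F] [Fintype F]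

/-- The two-part of `q^m - 1`, `m` odd. -/
theorem v2_pow_sub_one {q : ℕ} (hq : q % 2 = 1) (hq1 : 1 < q) (m : ℕ) :
    (q ^ (2 * m + 1) - 1).factorization 2 = (q - 1).factorization 2 := by
  have hpar : ∀ n, (∑ i ∈ Finset.range n, q ^ i) % 2 = n % 2 := fun n => by
    induction n with
    | zero => rfl
    | succ n ih => rw [Finset.sum_range_succ, Nat.add_mod, ih, Nat.pow_mod, hq, one_pow]; omega
  have hne : (∑ j ∈ Finset.range (2 * m + 1), q ^ j) % 2 = 1 := by rw [hpar]; omega
  rw [← geom_sum_mul_of_one_le hq1.le (2 * m + 1), Nat.factorization_mul (by omega) (by omega),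
    Finsupp.add_apply, Nat.factorization_eq_zero_of_not_dvd (n := ∑ j ∈ Finset.range (2 * m + 1), q ^ j)
      (by omega), zero_add]

theorem v2_pow_two_mul_sub_one {q : ℕ} (hq : q % 2 = 1) (hq1 : 1 < q) (m : ℕ) (hm : m ≠ 0) :
    (q ^ (2 * m) - 1).factorization 2 =
      (q + 1).factorization 2 + (q - 1).factorization 2 + m.factorization 2 := by
  haveI : Fact (Nat.Prime 2) := ⟨Nat.prime_two⟩
  have h := padicValNat.pow_two_sub_one hq1 (by omega) (n := 2 * m) (by omega) (even_two_mul m)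
  simp only [← Nat.factorization_def _ Nat.prime_two] at h
  rw [Nat.factorization_mul (by norm_num) hm, Finsupp.add_apply,
    Nat.Prime.factorization_self Nat.prime_two] at h
  omega

theorem v2_pow_add_one {q : ℕ} (hq : q % 2 = 1) (hq1 : 1 < q) (m : ℕ) :
    (q ^ (2 * m + 1) + 1).factorization 2 = (q + 1).factorization 2 := by
  have h := v2_pow_two_mul_sub_one hq hq1 (2 * m + 1) (by omega)
  have h1 : 1 ≤ q ^ (2 * m + 1) := Nat.one_le_pow _ _ (by omega)
  have h2 : 1 < q ^ (2 * m + 1) := Nat.one_lt_pow (by omega) hq1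
  have e : q ^ (2 * (2 * m + 1)) - 1 = (q ^ (2 * m + 1) + 1) * (q ^ (2 * m + 1) - 1) := by
    rw [show q ^ (2 * (2 * m + 1)) = (q ^ (2 * m + 1)) ^ 2 by rw [← pow_mul, mul_comm]]
    simpa using Nat.sq_sub_sq (q ^ (2 * m + 1)) 1
  rw [e, Nat.factorization_mul (by omega) (by omega), Finsupp.add_apply, v2_pow_sub_one hq hq1,
    Nat.factorization_eq_zero_of_not_dvd (n := 2 * m + 1) (by omega)] at h
  omega

variable {q : ℕ}

/-- The two-part of the order of an even dimensional unitary group. -/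
theorem v2_GU (hF : Fintype.card F = q ^ 2) (hq : q % 2 = 1) (k : ℕ) :
    (Nat.card (Cfsg.GU (2 * k) F q)).factorization 2 =
      k * (2 * (q + 1).factorization 2 + (q - 1).factorization 2) + k.factorial.factorization 2 := by
  have hq1 : 1 < q := (UnitaryBasic.frob_exists hF).1
  obtain ⟨f, hf⟩ : ∃ f : ℕ → ℕ, f = fun i => if Even i then q ^ (i + 1) + 1 else q ^ (i + 1) - 1 := ⟨_, rfl⟩
  have hpos : ∀ i, f i ≠ 0 := fun i => by
    rw [hf]
    have : 1 < q ^ (i + 1) := Nat.one_lt_pow (Nat.succ_ne_zero i) hq1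
    dsimp only
    split <;> omega
  have key : ∀ k, (∏ i ∈ Finset.range (2 * k), f i).factorization 2 =
      k * (2 * (q + 1).factorization 2 + (q - 1).factorization 2) + k.factorial.factorization 2 := by
    intro k
    induction k with
    | zero => simp
    | succ k ih =>
      rw [show 2 * (k + 1) = 2 * k + 1 + 1 by ring, Finset.prod_range_succ, Finset.prod_range_succ,
        Nat.factorization_mul (mul_ne_zero (Finset.prod_ne_zero_iff.mpr fun i _ => hpos i) (hpos _)) (hpos _),
        Nat.factorization_mul (Finset.prod_ne_zero_iff.mpr fun i _ => hpos i) (hpos _), Finsupp.add_apply,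
        Finsupp.add_apply, ih, hf]
      dsimp only
      rw [if_pos (even_two_mul k), if_neg (Nat.not_even_iff_odd.mpr (odd_two_mul_add_one k)),
        v2_pow_add_one hq hq1, show 2 * k + 1 + 1 = 2 * (k + 1) by ring,
        v2_pow_two_mul_sub_one hq hq1 _ (Nat.succ_ne_zero k), Nat.factorial_succ,
        Nat.factorization_mul (Nat.succ_ne_zero k) k.factorial_ne_zero, Finsupp.add_apply]
      ring
  rw [UnitaryOrder.card_GU hF, Nat.factorization_mul (pow_ne_zero _ (by omega))
    (by rw [← hf]; exact Finset.prod_ne_zero_iff.mpr fun i _ => hpos i),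
    Finsupp.add_apply, Nat.factorization_eq_zero_of_not_dvd (n := q ^ _) (fun h => by
      have := Nat.Prime.dvd_of_dvd_pow Nat.prime_two h
      omega), zero_add, ← hf, key]

/-! ### The unitary groups of an index type -/

variable {ι : Type*} [Fintype ι] [DecidableEq ι] (c : PSUBorel.Conj F)

/-- The unitary group of the sum form. -/
def Uni (ι : Type*) [Fintype ι] [DecidableEq ι] : Subgroup (GL ι F) :=
  PSpBorel.ofClosed {g | g.1ᵀ * g.1.map c.σ = 1} (by simp)
    (fun A hA B hB => by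
      show (A.1 * B.1)ᵀ * (A.1 * B.1).map c.σ = 1
      rw [Matrix.transpose_mul, Matrix.map_mul, Matrix.mul_assoc, ← Matrix.mul_assoc A.1ᵀ,
        show A.1ᵀ * A.1.map c.σ = 1 from hA, Matrix.one_mul]
      exact hB)

theorem mem_Uni {g : GL ι F} : g ∈ Uni c ι ↔ g.1ᵀ * g.1.map c.σ = 1 := Iff.rfl

theorem mem_GU_iff {n : ℕ} (g : GL (Fin n) F) : g ∈ Cfsg.GU n F c.q ↔ g ∈ Uni c (Fin n) := by
  rw [mem_Uni]
  constructor
  · intro h
    ext a b
    have e := h (Pi.single a 1) (Pi.single b 1)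
    change Cfsg.hermForm n F c.q (g.1 *ᵥ _) (g.1 *ᵥ _) = _ at e
    simp only [PSUBorel.hermForm_eq, Matrix.mulVec_single_one, Matrix.col_apply, single_dotProduct, one_mul] at e
    rw [Matrix.mul_apply]
    simp only [Matrix.transpose_apply, Matrix.map_apply]
    exact e.trans (by simp [Pi.single_apply, Matrix.one_apply, apply_ite c.σ])
  · intro h u v
    change Cfsg.hermForm n F c.q (g.1 *ᵥ u) (g.1 *ᵥ v) = _
    rw [PSUBorel.hermForm_eq, PSUBorel.hermForm_eq, PSUBorel.map_mulVec', Matrix.dotProduct_mulVec,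
      ← Matrix.vecMul_transpose, Matrix.vecMul_vecMul, h, Matrix.vecMul_one]

theorem glReindex_mem [DecidableEq F] {κ : Type*} [Fintype κ] [DecidableEq κ] (e : ι ≃ κ) (g : GL ι F) :
    glReindex e g ∈ Uni c κ ↔ g ∈ Uni c ι := by
  rw [mem_Uni, mem_Uni, glReindex_val, Matrix.transpose_submatrix, ← Matrix.submatrix_map,
    Matrix.submatrix_mul_equiv]
  constructor
  · intro h
    ext x y
    have := congrFun (congrFun h (e x)) (e y)
    simpa [Matrix.submatrix_apply, Matrix.one_apply] using this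
  · intro h
    rw [h, Matrix.submatrix_one_equiv]

variable {k : ℕ} [DecidableEq F]

theorem bl_mem_Uni (f : Fin k → GL (Fin 2) F) :
    bl f ∈ Uni c (Ix k 0) ↔ ∀ a, f a ∈ Uni c (Fin 2) := by
  rw [mem_Uni]
  have h : ∀ a b, blk ((bl f : GL (Ix k 0) F).1ᵀ * (bl f : GL (Ix k 0) F).1.map c.σ) a b =
      if a = b then (f a).1ᵀ * (f a).1.map c.σ else 0 := by
    intro a b
    have hb : ∀ x y, blk ((bl f : GL (Ix k 0) F).1.map c.σ) x y = if x = y then (f x).1.map c.σ else 0 := by
      intro x y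
      show (blk (bl f : GL (Ix k 0) F).1 x y).map c.σ = _
      rw [blk_bl]
      split <;> simp
    have ht : ∀ x y, blk (bl f : GL (Ix k 0) F).1ᵀ x y = if x = y then (f x).1ᵀ else 0 := by
      intro x y
      show (blk (bl f : GL (Ix k 0) F).1 y x)ᵀ = _
      rw [blk_bl]
      by_cases e : x = y
      · subst e; simp
      · simp [e, Ne.symm e]
    rw [blk_mul, Finset.sum_eq_single a (fun d _ hd => by rw [ht, if_neg hd.symm, zero_mul]) (by simp), ht,
      if_pos rfl, hb]
    split <;> simp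
  constructor
  · intro hU a
    rw [mem_Uni]
    have := h a a
    rw [hU, blk_one, if_pos rfl, if_pos rfl] at this
    exact this.symm
  · intro hU
    refine blk_ext fun a b => ?_
    rw [h, blk_one]
    split
    · exact hU a
    · rfl

theorem prm_mem_Uni (w : Equiv.Perm (Fin k)) : Prm w ∈ Uni c (Ix k 0) := by
  rw [mem_Uni, Prm_val]
  rw [Matrix.transpose_permMatrix, show ((LinearSylowTwo.ePerm (r := 0) w)⁻¹.permMatrix F).map c.σ =
    (LinearSylowTwo.ePerm (r := 0) w)⁻¹.permMatrix F by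
      ext i j
      simp [Matrix.map_apply, Equiv.Perm.permMatrix, PEquiv.toMatrix_apply, apply_ite c.σ]]
  rw [inv_inv, ← Matrix.permMatrix_mul, inv_mul_cancel, Matrix.permMatrix_one]

/-- Odd index subgroups of the special unitary groups of dimension `2k`. -/
theorem pronormal_SU_odd (hF : Fintype.card F = q ^ 2) (hq : q % 2 = 1) {n k j : ℕ} (hn : n = 2 * k)
    (hkj : k = 2 ^ j) (hk2 : 2 ≤ k) {H : Subgroup (Cfsg.SU n F q)} (hH : ¬ 2 ∣ H.index) :
    Cfsg.IsPronormal H := by
  classical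
  haveI : Fact (Nat.Prime 2) := ⟨Nat.prime_two⟩
  obtain ⟨hq1, σ, hσ⟩ := UnitaryBasic.frob_exists hF
  let c : PSUBorel.Conj F := ⟨q, σ, hF, hσ⟩
  have hFodd : Fintype.card F % 2 = 1 := by rw [hF, Nat.pow_mod, hq]
  have h2 : (2 : F) ≠ 0 := by
    intro h
    obtain ⟨p, hp⟩ := CharP.exists F
    haveI := hp
    obtain ⟨d, hpp, hcard⟩ := FiniteField.card F p
    have hp2 : p ∣ 2 := (CharP.cast_eq_zero_iff F p 2).mp (by exact_mod_cast h)
    rw [hcard, (Nat.prime_dvd_prime_iff_eq hpp Nat.prime_two).mp hp2, Nat.pow_mod, Nat.mod_self,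
      zero_pow d.pos.ne'] at hFodd
    exact zero_ne_one hFodd
  set G := Uni c (Fin 2) with hG
  have hGU : ∀ g, g ∈ G ↔ g ∈ Cfsg.GU 2 F q := fun g => (mem_GU_iff c g).symm
  obtain ⟨ζ, hζ⟩ := IsCyclic.exists_ofOrder_eq_natCard (α := Fˣ)
  rw [Nat.card_units, Nat.card_eq_fintype_card, hF] at hζ
  have hsq : q ^ 2 - 1 = (q + 1) * (q - 1) := by simpa using Nat.sq_sub_sq q 1
  obtain ⟨u₀, hu₀⟩ : ∃ i : Fˣ, (i : F) * i = -1 := by
    have h4 : 4 ∣ q ^ 2 - 1 := by
      rw [hsq]
      exact (show 4 = 2 * 2 from rfl) ▸ Nat.mul_dvd_mul (by omega) (by omega)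
    obtain ⟨r, hr⟩ := h4
    refine ⟨ζ ^ r, ?_⟩
    have h1 : ((ζ ^ r : Fˣ) : F) * (ζ ^ r : Fˣ) * (((ζ ^ r : Fˣ) : F) * (ζ ^ r : Fˣ)) = 1 := by
      rw [← Units.val_mul, ← Units.val_mul, ← pow_add, ← pow_add, show r + r + (r + r) = q ^ 2 - 1 by omega,
        ← hζ, pow_orderOf_eq_one, Units.val_one]
    rcases mul_self_eq_one_iff.mp h1 with e | e
    · exfalso
      have h3 : ζ ^ (r + r) = 1 := Units.ext (by rw [pow_add, Units.val_mul, e, Units.val_one])
      have hdvd := Nat.le_of_dvd (by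
        have : 1 < q ^ 2 := Nat.one_lt_pow (by norm_num) hq1
        omega) (orderOf_dvd_of_pow_eq_one h3)
      rw [hζ] at hdvd
      have : 1 < q ^ 2 := Nat.one_lt_pow (by norm_num) hq1
      omega
    · exact e
  obtain ⟨i, rfl⟩ : ∃ i : F, i = (u₀ : F) := ⟨_, rfl⟩
  generalize (u₀ : F) = i at hu₀
  have hi0 : i ≠ 0 := fun h => by rw [h, mul_zero] at hu₀; exact neg_ne_zero.mpr one_ne_zero hu₀.symm
  obtain ⟨a, b, haG, hbG, had, hbd, haa, hbb, hba⟩ : ∃ a b : GL (Fin 2) F, a ∈ G ∧ b ∈ G ∧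
      Matrix.GeneralLinearGroup.det a = 1 ∧ Matrix.GeneralLinearGroup.det b = 1 ∧
      a.1 * a.1 = -1 ∧ b.1 * b.1 = -1 ∧ b.1 * a.1 = -(a.1 * b.1) := by
    rcases (show q % 4 = 1 ∨ q % 4 = 3 by omega) with h4 | h4
    · -- split unitary torus
      have hiq : i ^ q = i := by
        obtain ⟨s, rfl⟩ : ∃ s, q = 4 * s + 1 := ⟨q / 4, by omega⟩
        have : i ^ 4 = 1 := by linear_combination (i * i - 1) * hu₀
        rw [pow_succ, pow_mul, this, one_pow, one_mul]
      obtain ⟨α, hα⟩ := c.exists_norm (d := (-1 : F)) (by rw [map_neg, map_one])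
      obtain ⟨l, hl0, hl⟩ := c.exists_antifixed
      have hα0 : α ≠ 0 := fun h => by rw [h, zero_mul] at hα; exact neg_ne_zero.mpr one_ne_zero hα.symm
      rw [show c.σ = σ from rfl, hσ] at hα hl
      have hαq : α ^ q = -1 / α := by rw [eq_div_iff hα0]; linear_combination hα
      let a : GL (Fin 2) F := GeneralLinearGroup.mkOfDetNeZero !![0, i / α; α * i, 0] (by
        rw [Matrix.det_fin_two_of]; field_simp; simp [hu₀, hi0])
      let b : GL (Fin 2) F := GeneralLinearGroup.mkOfDetNeZero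
        !![(l - l⁻¹) / 2, (l + l⁻¹) / (2 * α); -(α * (l + l⁻¹) / 2), -((l - l⁻¹) / 2)] (by
        rw [Matrix.det_fin_two_of]
        intro h0
        field_simp at h0
        exact mul_ne_zero (mul_ne_zero h2 h2) hl0 (by
          refine (mul_eq_zero.mp ?_).resolve_right hl0
          linear_combination h0))
      refine ⟨a, b, (hGU a).mpr ?_, (hGU b).mpr ?_, Units.ext ?_, Units.ext ?_, ?_, ?_, ?_⟩
      · have ha1 : a.1 = !![0, i / α; α * i, 0] := rfl
        refine GUTwoSylow.mem_GU2 hF ?_ ?_ ?_ <;>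
          simp only [ha1, Matrix.cons_val_zero,
            Matrix.cons_val_one, Matrix.of_apply, Matrix.cons_val', Matrix.cons_val_fin_one, div_pow, mul_pow,
            zero_pow (show q ≠ 0 by omega), hiq, hαq] <;> field_simp <;>
          first | ring1 | linear_combination hu₀ | linear_combination -hu₀
      · have hlinv : l⁻¹ ^ q = -l⁻¹ := by rw [inv_pow, hl, inv_neg]
        have hp : ∀ x y : F, (x + y) ^ q = x ^ q + y ^ q := fun x y => by
          rw [← hσ, ← hσ, ← hσ, map_add]
        have hn' : ∀ x : F, (-x) ^ q = -x ^ q := fun x => by rw [← hσ, ← hσ, map_neg]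
        have hh : ((2 : F)) ^ q = 2 := by rw [← hσ, map_ofNat]
        have hb1 : b.1 = !![(l - l⁻¹) / 2, (l + l⁻¹) / (2 * α); -(α * (l + l⁻¹) / 2), -((l - l⁻¹) / 2)] := rfl
        refine GUTwoSylow.mem_GU2 hF ?_ ?_ ?_ <;>
          simp only [hb1, Matrix.cons_val_zero,
            Matrix.cons_val_one, Matrix.of_apply, Matrix.cons_val', Matrix.cons_val_fin_one, sub_eq_add_neg,
            div_pow, mul_pow, hp, hn', hl, hlinv, hh, hαq] <;> field_simp <;> ring1
      · show (!![0, i / α; α * i, 0]).det = 1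
        rw [Matrix.det_fin_two_of]; field_simp; linear_combination -hu₀
      · show (!![(l - l⁻¹) / 2, (l + l⁻¹) / (2 * α); -(α * (l + l⁻¹) / 2), -((l - l⁻¹) / 2)]).det = 1
        rw [Matrix.det_fin_two_of]; field_simp; ring
      · show !![0, i / α; α * i, 0] * !![0, i / α; α * i, 0] = -1
        ext x y; fin_cases x <;> fin_cases y <;> simp [Matrix.mul_apply, Fin.sum_univ_two] <;> field_simp <;>
          first | linear_combination hu₀ | ring
      · show !![(l - l⁻¹) / 2, (l + l⁻¹) / (2 * α); -(α * (l + l⁻¹) / 2), -((l - l⁻¹) / 2)] *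
          !![(l - l⁻¹) / 2, (l + l⁻¹) / (2 * α); -(α * (l + l⁻¹) / 2), -((l - l⁻¹) / 2)] = -1
        ext x y; fin_cases x <;> fin_cases y <;> simp [Matrix.mul_apply, Fin.sum_univ_two] <;> field_simp <;> ring
      · show !![(l - l⁻¹) / 2, (l + l⁻¹) / (2 * α); -(α * (l + l⁻¹) / 2), -((l - l⁻¹) / 2)] *
          !![0, i / α; α * i, 0] = -(!![0, i / α; α * i, 0] *
          !![(l - l⁻¹) / 2, (l + l⁻¹) / (2 * α); -(α * (l + l⁻¹) / 2), -((l - l⁻¹) / 2)])
        ext x y; fin_cases x <;> fin_cases y <;> simp [Matrix.mul_apply, Fin.sum_univ_two] <;> field_simp <;> ring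
    · -- diagonal
      have hiq : i ^ q = -i := by
        obtain ⟨s, rfl⟩ : ∃ s, q = 4 * s + 3 := ⟨q / 4, by omega⟩
        have : i ^ 4 = 1 := by linear_combination (i * i - 1) * hu₀
        rw [pow_add, pow_mul, this, one_pow, one_mul]
        linear_combination i * hu₀
      have hn' : ∀ x : F, (-x) ^ q = -x ^ q := fun x => by rw [← hσ, ← hσ, map_neg]
      let a : GL (Fin 2) F := GeneralLinearGroup.mkOfDetNeZero !![i, 0; 0, -i] (by
        rw [Matrix.det_fin_two_of]; simp [hu₀, hi0])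
      let b : GL (Fin 2) F := GeneralLinearGroup.mkOfDetNeZero !![0, 1; -1, 0] (by simp [Matrix.det_fin_two_of])
      refine ⟨a, b, (hGU a).mpr ?_, (hGU b).mpr ?_, Units.ext ?_, Units.ext ?_, ?_, ?_, ?_⟩
      · refine GUTwoSylow.mem_GU2 hF ?_ ?_ ?_ <;>
          simp [a, GeneralLinearGroup.mkOfDetNeZero, hn', hiq, zero_pow (show q ≠ 0 by omega), hu₀]
      · refine GUTwoSylow.mem_GU2 hF ?_ ?_ ?_ <;>
          simp [b, GeneralLinearGroup.mkOfDetNeZero, hn', zero_pow (show q ≠ 0 by omega)]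
      · show (!![i, 0; 0, -i]).det = 1
        rw [Matrix.det_fin_two_of]; linear_combination -hu₀
      · show (!![(0 : F), 1; -1, 0]).det = 1
        simp [Matrix.det_fin_two_of]
      · show !![i, 0; 0, -i] * !![i, 0; 0, -i] = -1
        ext x y; fin_cases x <;> fin_cases y <;> simp [Matrix.mul_apply, Fin.sum_univ_two, hu₀]
      · show !![(0 : F), 1; -1, 0] * !![0, 1; -1, 0] = -1
        ext x y; fin_cases x <;> fin_cases y <;> simp [Matrix.mul_apply, Fin.sum_univ_two]
      · show !![(0 : F), 1; -1, 0] * !![i, 0; 0, -i] = -(!![i, 0; 0, -i] * !![(0 : F), 1; -1, 0])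
        ext x y; fin_cases x <;> fin_cases y <;> simp [Matrix.mul_apply, Fin.sum_univ_two]
  have haa' : a * a = -1 := Units.ext haa
  have hbb' : b * b = -1 := Units.ext hbb
  have hba' : b * a * b⁻¹ = a⁻¹ := by
    rw [show a⁻¹ = -a from inv_eq_of_mul_eq_one_right (by rw [mul_neg, haa', neg_neg]),
      mul_inv_eq_iff_eq_mul, neg_mul]
    exact Units.ext hba
  -- the determinant
  obtain ⟨η, hη, ⟨n', hn'⟩, hns⟩ := exists_nonsquare_two (powMonoidHom (q + 1) : Fˣ →* Fˣ).ker h2
    (by
      rw [MonoidHom.mem_ker, powMonoidHom_apply]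
      exact Units.ext (by simp [(Nat.even_iff.mpr (show (q + 1) % 2 = 0 by omega)).neg_one_pow]))
  rw [MonoidHom.mem_ker, powMonoidHom_apply] at hη
  let t : GL (Fin 2) F := GUTwoSylow.diagHom (η, 1)
  have htd : Matrix.GeneralLinearGroup.det t = η := Units.ext (by
    show (!![(η : F), 0; 0, ((1 : Fˣ) : F)]).det = _
    simp [Matrix.det_fin_two_of])
  obtain ⟨M, hS, hMc⟩ := exists_setup G h2 haG hbG had hbd haa' hbb' hba'
    (t := t) ((hGU t).mpr (GUTwoSylow.diagHom_mem hF hη (one_pow _))) (n := n')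
    (by
      show GUTwoSylow.diagHom (η, (1 : Fˣ)) ^ 2 ^ n' = 1
      rw [← map_pow, Prod.pow_mk, hn', one_pow]
      exact map_one _)
    (fun d hd => htd ▸ hns d (by
      rw [MonoidHom.mem_ker, powMonoidHom_apply]
      refine Units.ext ?_
      have h := congrFun (congrFun ((mem_Uni c).mp hd) 0) 0
      rw [scal_val, Matrix.mul_apply] at h
      simp only [Fin.sum_univ_two, Matrix.transpose_apply, Matrix.map_apply, Matrix.smul_apply,
        Matrix.one_apply_eq, smul_eq_mul, mul_one, Matrix.one_apply_ne (by decide : (1 : Fin 2) ≠ 0),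
        mul_zero, zero_mul, add_zero] at h
      rw [show c.σ (d : F) = (d : F) ^ q from hσ _, ← pow_succ'] at h
      rw [Units.val_pow_eq_pow_val, h, Units.val_one]))
  -- transport to the special unitary group
  let e : Ix k 0 ≃ Fin n := Fintype.equivOfCardEq (by simp [hn])
  let U := Uni c (Ix k 0)
  have hGcard : ∀ m, Nat.card (Uni c (Fin m)) = Nat.card (Cfsg.GU m F q) := fun m =>
    Nat.card_congr (Equiv.subtypeEquivRight fun g => (mem_GU_iff c g).symm)
  have hUn : U.map (glReindex (F := F) e).toMonoidHom = Uni c (Fin n) := by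
    ext g
    constructor
    · rintro ⟨x, hx, rfl⟩
      exact (glReindex_mem c e x).mpr hx
    · intro hg
      refine ⟨(glReindex e).symm g, (glReindex_mem c e _).mp ?_, MulEquiv.apply_symm_apply _ g⟩
      rw [MulEquiv.apply_symm_apply]
      exact hg
  have hcard : 2 ^ (Nat.card U).factorization 2 ≤ Nat.card M ^ k * 2 ^ k.factorial.factorization 2 := by
    have h1 := (Nat.card_congr (U.equivMapOfInjective (glReindex (F := F) e).toMonoidHom
      (glReindex (F := F) e).injective).toEquiv).symm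
    rw [hUn] at h1
    have h2k := v2_GU hF hq k
    have h21 := v2_GU hF hq 1
    rw [Nat.factorial_one, Nat.factorization_one, Finsupp.coe_zero, Pi.zero_apply, add_zero, one_mul,
      mul_one] at h21
    rw [← hn] at h2k
    rw [← h1, hGcard, hMc, hG, hGcard, h2k, h21, ← pow_mul, ← pow_add]
    exact Nat.pow_le_pow_right (by norm_num) (le_of_eq (by ring))
  let φ : ↥(U ⊓ (Matrix.GeneralLinearGroup.det : GL (Ix k 0) F →* Fˣ).ker) →*
      Cfsg.SU n F q :=
    { toFun := fun g => ⟨⟨(glReindex e g.1).1, by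
          rw [glReindex_val, Matrix.det_submatrix_equiv_self]
          exact congrArg Units.val (MonoidHom.mem_ker.mp g.2.2)⟩,
        (PSUBorel.mem_SU_iff c _).mpr ((glReindex_mem c e g.1).mpr g.2.1)⟩
      map_one' := Subtype.ext (Subtype.ext (by
        show (glReindex e (1 : GL (Ix k 0) F)).1 = 1
        rw [map_one, Units.val_one]))
      map_mul' := fun g h => Subtype.ext (Subtype.ext (by
        show (glReindex e (g.1 * h.1)).1 = (glReindex e g.1).1 * (glReindex e h.1).1
        rw [map_mul, Units.val_mul])) }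
  have hφ : Function.Surjective φ := by
    intro s
    refine ⟨⟨(glReindex e).symm (Matrix.SpecialLinearGroup.toGL s.1), ?_, MonoidHom.mem_ker.mpr (Units.ext ?_)⟩,
      Subtype.ext (Subtype.ext ?_)⟩
    · refine (glReindex_mem c e _).mp ?_
      rw [MulEquiv.apply_symm_apply]
      exact (PSUBorel.mem_SU_iff c s.1).mp s.2
    · have h := s.1.2
      rw [← show ((glReindex e ((glReindex e).symm (Matrix.SpecialLinearGroup.toGL s.1))).1 :
        Matrix (Fin n) (Fin n) F) = s.1.1 by rw [MulEquiv.apply_symm_apply]; rfl, glReindex_val,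
        Matrix.det_submatrix_equiv_self] at h
      exact h
    · show (glReindex e ((glReindex e).symm (Matrix.SpecialLinearGroup.toGL s.1))).1 = s.1.1
      rw [MulEquiv.apply_symm_apply]
      rfl
  exact pronormal_of_surjective φ hφ (fun K hK => pronormal_block hS h2 hk2 hkj
    (bl_mem_Uni c) (prm_mem_Uni c) hcard hK) hH

end CfsgLib.PronOdd
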