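import Mathlib
import Cfsg.Agent.Lib.PronormalOddIndex.CharTwo
import Cfsg.Agent.Lib.Fusion.PSUSplit

/-!
# Special unitary groups: Bruhat decomposition and odd index subgroups in characteristic two
-/

set_option autoImplicit false
set_option linter.style.haveILetI false
set_option linter.unusedSectionVars false

namespace CfsgLib.PronOdd

open Matrix
open CfsgLib.PSLn (upper)
open CfsgLib.PSUBorel (Conj SUs Par UU Cond aJ mul_aJ aJ_mul aJ_sq)

variable {F : Type*} [Field F] [Fintype F] {n : ℕ} (c : Conj F)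

local notation "SL" => Matrix.SpecialLinearGroup (Fin n) F
local notation "Mn" => Matrix (Fin n) (Fin n) F

/-- The automorphism whose fixed points are the split special unitary group. -/
def theta : SL →* SL where
  toFun A := ⟨aJ F n * ((A⁻¹ : SL).1.map c.σ)ᵀ * aJ F n, by
    have h : (aJ F n : Mn).det * (aJ F n : Mn).det = 1 := by rw [← Matrix.det_mul, aJ_sq, Matrix.det_one]
    rw [Matrix.det_mul, Matrix.det_mul, Matrix.det_transpose, ← RingHom.mapMatrix_apply, ← RingHom.map_det,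
      (A⁻¹ : SL).2, map_one, mul_one, h]⟩
  map_one' := Subtype.ext (by
    show aJ F n * ((1⁻¹ : SL).1.map c.σ)ᵀ * aJ F n = 1
    rw [inv_one, Matrix.SpecialLinearGroup.coe_one, Matrix.map_one _ (map_zero _) (map_one _),
      Matrix.transpose_one, Matrix.mul_one, aJ_sq])
  map_mul' A B := Subtype.ext (by
    show aJ F n * (((A * B)⁻¹ : SL).1.map c.σ)ᵀ * aJ F n =
      (aJ F n * ((A⁻¹ : SL).1.map c.σ)ᵀ * aJ F n) * (aJ F n * ((B⁻¹ : SL).1.map c.σ)ᵀ * aJ F n)
    rw [_root_.mul_inv_rev, Matrix.SpecialLinearGroup.coe_mul, Matrix.map_mul, Matrix.transpose_mul]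
    simp only [Matrix.mul_assoc]
    rw [← Matrix.mul_assoc (aJ F n) (aJ F n), aJ_sq, Matrix.one_mul])

theorem theta_apply (A : SL) (i j : Fin n) : (theta c A).1 i j = c.σ ((A⁻¹ : SL).1 j.rev i.rev) := by
  show (aJ F n * ((A⁻¹ : SL).1.map c.σ)ᵀ * aJ F n) i j = _
  rw [mul_aJ, aJ_mul, Matrix.transpose_apply, Matrix.map_apply]

theorem theta_eq_iff (A : SL) : theta c A = A ↔ A ∈ SUs c n := by
  show theta c A = A ↔ Cond c A.1
  have h1 : (A.1.map c.σ)ᵀ * ((A⁻¹ : SL).1.map c.σ)ᵀ = 1 := by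
    rw [← Matrix.transpose_mul, ← Matrix.map_mul, ← Matrix.SpecialLinearGroup.coe_mul, inv_mul_cancel,
      Matrix.SpecialLinearGroup.coe_one, Matrix.map_one _ (map_zero _) (map_one _), Matrix.transpose_one]
  have h1' := mul_eq_one_comm.mp h1
  unfold PSUBorel.Cond
  constructor
  · intro h
    have e : A.1 = aJ F n * ((A⁻¹ : SL).1.map c.σ)ᵀ * aJ F n := (congrArg Subtype.val h).symm
    have e2 : A.1 * aJ F n = aJ F n * ((A⁻¹ : SL).1.map c.σ)ᵀ := by
      conv_lhs => rw [e]
      rw [Matrix.mul_assoc, aJ_sq, Matrix.mul_one]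
    rw [e2, Matrix.mul_assoc, h1', Matrix.mul_one]
  · intro h
    apply Subtype.ext
    show aJ F n * ((A⁻¹ : SL).1.map c.σ)ᵀ * aJ F n = A.1
    conv_lhs => arg 1; arg 1; rw [← h]
    rw [Matrix.mul_assoc (A.1 * aJ F n), h1, Matrix.mul_one, Matrix.mul_assoc, aJ_sq, Matrix.mul_one]

/-- Lower unitriangular matrices. -/
def lower (F : Type*) [Field F] [Fintype F] (n : ℕ) : Subgroup (Matrix.SpecialLinearGroup (Fin n) F) :=
  PSpBorel.ofClosed {A | ∀ i j, i ≤ j → A.1 i j = (1 : Matrix (Fin n) (Fin n) F) i j}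
    (fun i j _ => by rw [Matrix.SpecialLinearGroup.coe_one])
    (fun A hA B hB i j hij => by
      rw [Matrix.SpecialLinearGroup.coe_mul, Matrix.mul_apply, Finset.sum_eq_single i]
      · rw [hA i i le_rfl, Matrix.one_apply_eq, one_mul, hB i j hij]
      · intro l _ hl
        rcases lt_or_gt_of_ne hl with h | h
        · rw [hB l j (h.le.trans hij), Matrix.one_apply_ne (h.trans_le hij).ne, mul_zero]
        · rw [hA i l h.le, Matrix.one_apply_ne h.ne, zero_mul]
      · simp)

theorem theta_upper {A : SL} (hA : A ∈ upper F n) : theta c A ∈ upper F n := by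
  intro i j hij
  rw [theta_apply, (PSLn.mem_upper.mp (inv_mem hA)) j.rev i.rev (Fin.rev_le_rev.mpr hij)]
  rcases eq_or_ne i j with rfl | h
  · simp
  · rw [Matrix.one_apply_ne h, Matrix.one_apply_ne (fun e => h (Fin.rev_injective e).symm), map_zero]

theorem theta_lower {A : SL} (hA : A ∈ lower F n) : theta c A ∈ lower F n := by
  intro i j hij
  rw [theta_apply, (inv_mem hA : A⁻¹ ∈ lower F n) j.rev i.rev (Fin.rev_le_rev.mpr hij)]
  rcases eq_or_ne i j with rfl | h
  · simp
  · rw [Matrix.one_apply_ne h, Matrix.one_apply_ne (fun e => h (Fin.rev_injective e).symm), map_zero]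

theorem theta_mon {A : SL} (hA : A ∈ monSL F n) : theta c A ∈ monSL F n := by
  obtain ⟨τ, hτ⟩ : ∃ τ, IsMon τ (A⁻¹ : SL).1 := inv_mem hA
  refine ⟨Fin.revPerm.trans (τ⁻¹.trans Fin.revPerm), fun i j hij => ?_⟩
  rw [theta_apply, hτ, map_zero]
  intro e
  refine hij ?_
  show i = (τ⁻¹ j.rev).rev
  rw [e, Equiv.Perm.inv_def, Equiv.symm_apply_apply, Fin.rev_rev]

theorem upper_inf_lower {A : SL} (h1 : A ∈ upper F n) (h2 : A ∈ lower F n) : A = 1 := by
  apply Subtype.ext
  ext i j
  rw [Matrix.SpecialLinearGroup.coe_one]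
  rcases le_total i j with h | h
  · exact h2 i j h
  · exact h1 i j h

theorem mon_ne_zero {m : SL} {σ : Equiv.Perm (Fin n)} (hm : IsMon σ m.1) (i : Fin n) : m.1 (σ i) i ≠ 0 := by
  intro h0
  have : m.1.det = 0 := Matrix.det_eq_zero_of_column_eq_zero i fun l => by
    by_cases hl : l = σ i
    · rw [hl, h0]
    · exact hm l i hl
  rw [m.2] at this
  exact one_ne_zero this

/-- Uniqueness of the monomial part. -/
theorem mon_unique {u v m m' : SL} (hu : u ∈ upper F n) (hv : v ∈ upper F n) (hm : m ∈ monSL F n)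
    (hm' : m' ∈ monSL F n) (h : u * m = m' * v) : m = m' := by
  obtain ⟨σ, hσ⟩ := hm
  obtain ⟨τ, hτ⟩ := hm'
  have he : ∀ i j, u.1 i (σ j) * m.1 (σ j) j = m'.1 i (τ⁻¹ i) * v.1 (τ⁻¹ i) j := by
    intro i j
    have e := congrFun (congrFun (congrArg Subtype.val h) i) j
    rw [Matrix.SpecialLinearGroup.coe_mul, Matrix.SpecialLinearGroup.coe_mul, Matrix.mul_apply, Matrix.mul_apply,
      Finset.sum_eq_single (σ j) (fun l _ hl => by rw [hσ l j hl, mul_zero]) (by simp),
      Finset.sum_eq_single (τ⁻¹ i) (fun l _ hl => by rw [hτ i l (fun e => hl (by rw [e]; simp)), zero_mul])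
        (by simp)] at e
    exact e
  have hle : ∀ j, τ⁻¹ (σ j) ≤ j := by
    intro j
    by_contra hlt
    have e := he (σ j) j
    rw [(PSLn.mem_upper.mp hu) _ _ le_rfl, Matrix.one_apply_eq, one_mul,
      (PSLn.mem_upper.mp hv) _ _ (not_le.mp hlt).le, Matrix.one_apply_ne (ne_of_gt (not_le.mp hlt)), mul_zero] at e
    exact mon_ne_zero hσ j e
  have hid : ∀ j, τ⁻¹ (σ j) = j := by
    by_contra hne
    push Not at hne
    obtain ⟨j, hj⟩ := hne
    have hlt : ∑ x : Fin n, ((τ⁻¹ (σ x) : Fin n) : ℕ) < ∑ x : Fin n, (x : ℕ) :=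
      Finset.sum_lt_sum (fun x _ => hle x) ⟨j, Finset.mem_univ _, Fin.lt_def.mp (lt_of_le_of_ne (hle j) hj)⟩
    have heq : ∑ x : Fin n, ((τ⁻¹ (σ x) : Fin n) : ℕ) = ∑ x : Fin n, (x : ℕ) :=
      Equiv.sum_comp (σ.trans τ⁻¹) fun x : Fin n => (x : ℕ)
    omega
  have hστ : σ = τ := Equiv.ext fun j => Equiv.Perm.inv_eq_iff_eq.mp (hid j)
  subst hστ
  apply Subtype.ext
  ext i j
  by_cases hij : i = σ j
  · subst hij
    have e := he (σ j) j
    rw [hid, (PSLn.mem_upper.mp hu) _ _ le_rfl, (PSLn.mem_upper.mp hv) _ _ le_rfl, Matrix.one_apply_eq,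
      Matrix.one_apply_eq, one_mul, mul_one] at e
    exact e
  · rw [hσ i j hij, hτ i j hij]

/-- An element of the unitriangular group factored along a monomial element. -/
theorem exists_factor {m : SL} (hm : m ∈ monSL F n) {u : SL} (hu : u ∈ upper F n) :
    ∃ w ∈ upper F n, ∃ x ∈ upper F n, m⁻¹ * w * m ∈ lower F n ∧ m⁻¹ * x * m ∈ upper F n ∧ u = w * x := by
  classical
  obtain ⟨σ, hσ⟩ := hm
  obtain ⟨W, hW⟩ : ∃ W, W = {w : SL | w ∈ upper F n ∧ m⁻¹ * w * m ∈ lower F n} := ⟨_, rfl⟩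
  obtain ⟨V, hV⟩ : ∃ V, V = {x : SL | x ∈ upper F n ∧ m⁻¹ * x * m ∈ upper F n} := ⟨_, rfl⟩
  have hconj : ∀ (a : SL) (p r : Fin n),
      (m⁻¹ * a * m : SL).1 p r = (m⁻¹ : SL).1 p (σ p) * a.1 (σ p) (σ r) * m.1 (σ r) r := by
    intro a p r
    obtain ⟨τ, hτ⟩ : ∃ τ, IsMon τ (m⁻¹ : SL).1 := inv_mem (show m ∈ monSL F n from ⟨σ, hσ⟩)
    have hτσ : ∀ l, (m⁻¹ : SL).1 p l ≠ 0 → l = σ p := by
      intro l hl
      by_contra hne
      have h1 : (m⁻¹ * m : SL).1 p (σ.symm l) = (m⁻¹ : SL).1 p l * m.1 l (σ.symm l) := by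
        rw [Matrix.SpecialLinearGroup.coe_mul, Matrix.mul_apply, Finset.sum_eq_single l]
        · intro b _ hb; rw [hσ b _ (fun e => hb (by rw [e]; simp)), mul_zero]
        · simp
      rw [inv_mul_cancel, Matrix.SpecialLinearGroup.coe_one,
        Matrix.one_apply_ne (fun e => hne (by rw [e]; simp))] at h1
      have := mon_ne_zero hσ (σ.symm l)
      rw [Equiv.apply_symm_apply] at this
      exact mul_ne_zero hl this h1.symm
    rw [Matrix.SpecialLinearGroup.coe_mul, Matrix.mul_apply,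
      Finset.sum_eq_single (σ r) (fun b _ hb => by rw [hσ b r hb, mul_zero]) (by simp),
      Matrix.SpecialLinearGroup.coe_mul, Matrix.mul_apply,
      Finset.sum_eq_single (σ p) (fun b _ hb => by
        rw [show (m⁻¹ : SL).1 p b = 0 from not_not.mp fun h => hb (hτσ b h), zero_mul]) (by simp)]
  have hdiag : ∀ p, (m⁻¹ : SL).1 p (σ p) * m.1 (σ p) p = 1 := by
    intro p
    have h := hconj 1 p p
    rw [mul_one, inv_mul_cancel, Matrix.SpecialLinearGroup.coe_one, Matrix.one_apply_eq, Matrix.one_apply_eq,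
      mul_one] at h
    exact h.symm
  -- the masks
  let P : Subgroup SL := upper F n
  let mk' : (Fin n → Fin n → Prop) → P → SL := fun R a =>
    ⟨Matrix.of fun i j => if R i j then a.1.1 i j else (1 : Mn) i j, by
      have h' : ∀ i j, j ≤ i → (if R i j then a.1.1 i j else (1 : Mn) i j) = (1 : Mn) i j := fun i j hij => by
        rw [(PSLn.mem_upper.mp a.2) i j hij, ite_self]
      rw [Matrix.det_of_upperTriangular]
      · exact Finset.prod_eq_one fun i _ => by rw [Matrix.of_apply, h' i i le_rfl, Matrix.one_apply_eq]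
      · intro i j h
        have hlt : j < i := h
        rw [Matrix.of_apply, h' i j hlt.le, Matrix.one_apply_ne hlt.ne']⟩
  let R : Fin n → Fin n → Prop := fun i j => σ.symm j ≤ σ.symm i
  have hmkU : ∀ R a, mk' R a ∈ upper F n := fun R a i j hij => by
    show (if R i j then a.1.1 i j else (1 : Mn) i j) = _
    rw [(PSLn.mem_upper.mp a.2) i j hij, ite_self]
  have hWm : ∀ a : P, mk' R a ∈ W := by
    intro a
    rw [hW]
    refine ⟨hmkU R a, fun p r hpr => ?_⟩
    rw [hconj]
    rcases hpr.eq_or_lt with rfl | h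
    · rw [(PSLn.mem_upper.mp (hmkU R a)) _ _ le_rfl, Matrix.one_apply_eq, mul_one, hdiag, Matrix.one_apply_eq]
    · have : (mk' R a).1 (σ p) (σ r) = 0 := by
        simp only [mk', Matrix.of_apply]
        rw [if_neg (by simp [R, h]), Matrix.one_apply_ne (fun e => h.ne (σ.injective e))]
      rw [this, mul_zero, zero_mul, Matrix.one_apply_ne h.ne]
  have hVm : ∀ a : P, mk' (fun i j => ¬ R i j) a ∈ V := by
    intro a
    rw [hV]
    refine ⟨hmkU _ a, fun p r hrp => ?_⟩
    rw [hconj]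
    rcases hrp.eq_or_lt with rfl | h
    · rw [(PSLn.mem_upper.mp (hmkU _ a)) _ _ le_rfl, Matrix.one_apply_eq, mul_one, hdiag, Matrix.one_apply_eq]
    · have : (mk' (fun i j => ¬ R i j) a).1 (σ p) (σ r) = 0 := by
        simp only [mk', Matrix.of_apply]
        rw [if_neg (by simp [R, h.le]), Matrix.one_apply_ne (fun e => h.ne' (σ.injective e))]
      rw [this, mul_zero, zero_mul, Matrix.one_apply_ne h.ne']
  let ι : P → W × V := fun a => (⟨_, hWm a⟩, ⟨_, hVm a⟩)
  have hι : Function.Injective ι := by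
    intro a b e
    apply Subtype.ext; apply Subtype.ext
    ext i j
    by_cases hR : R i j
    · have := congrArg (fun z : W × V => (z.1 : SL).1 i j) e
      simpa [ι, mk', hR] using this
    · have := congrArg (fun z : W × V => (z.2 : SL).1 i j) e
      simpa [ι, mk', hR] using this
  have hW' : ∀ w : W, (w : SL) ∈ upper F n ∧ m⁻¹ * (w : SL) * m ∈ lower F n := fun w =>
    (Set.ext_iff.mp hW _).mp w.2
  have hV' : ∀ w : V, (w : SL) ∈ upper F n ∧ m⁻¹ * (w : SL) * m ∈ upper F n := fun w =>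
    (Set.ext_iff.mp hV _).mp w.2
  let μ : W × V → P := fun z => ⟨z.1.1 * z.2.1, mul_mem (hW' z.1).1 (hV' z.2).1⟩
  have hμ : Function.Injective μ := by
    intro a b e
    have e' : a.1.1 * a.2.1 = b.1.1 * b.2.1 := congrArg Subtype.val e
    have key : b.1.1⁻¹ * a.1.1 = b.2.1 * a.2.1⁻¹ := by
      rw [inv_mul_eq_iff_eq_mul, ← mul_assoc, eq_mul_inv_iff_mul_eq, e']
    have h1 : m⁻¹ * (b.1.1⁻¹ * a.1.1) * m ∈ lower F n := by
      have := mul_mem (inv_mem (hW' b.1).2) (hW' a.1).2
      simpa [mul_assoc] using this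
    have h2 : m⁻¹ * (b.1.1⁻¹ * a.1.1) * m ∈ upper F n := by
      rw [key]
      have := mul_mem (hV' b.2).2 (inv_mem (hV' a.2).2)
      simpa [mul_assoc] using this
    have h3 := upper_inf_lower h2 h1
    rw [mul_eq_one_iff_eq_inv, mul_eq_left] at h3
    have ha : a.1 = b.1 := Subtype.ext (eq_of_inv_mul_eq_one h3).symm
    refine Prod.ext ha (Subtype.ext ?_)
    rw [ha] at e'
    exact mul_left_cancel e'
  have hsurj : Function.Surjective μ := by
    have h := (Finite.injective_iff_surjective (f := μ ∘ ι)).mp (hμ.comp hι)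
    exact fun a => let ⟨b, hb⟩ := h a; ⟨ι b, hb⟩
  obtain ⟨⟨w, x⟩, e⟩ := hsurj ⟨u, hu⟩
  exact ⟨w, (hW' w).1, x, (hV' x).1, (hW' w).2, (hV' x).2, (congrArg Subtype.val e).symm⟩

/-- The Bruhat decomposition of the split special unitary group. -/
theorem exists_bruhat_SU {g : SL} (hg : g ∈ SUs c n) :
    ∃ u ∈ upper F n, ∃ m ∈ monSL F n, ∃ v ∈ upper F n,
      u ∈ SUs c n ∧ m ∈ SUs c n ∧ v ∈ SUs c n ∧ g = u * m * v := by
  obtain ⟨u, hu, m, hm, v, hv, e⟩ := exists_bruhat_SL g
  have hgf := (theta_eq_iff c g).mpr hg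
  have hmf : theta c m = m := by
    refine mon_unique (u := u⁻¹ * theta c u) (v := v * (theta c v)⁻¹)
      (mul_mem (inv_mem hu) (theta_upper c hu)) (mul_mem hv (inv_mem (theta_upper c hv))) (theta_mon c hm) hm ?_
    rw [e, map_mul, map_mul] at hgf
    calc u⁻¹ * theta c u * theta c m = u⁻¹ * (theta c u * theta c m * theta c v) * (theta c v)⁻¹ := by group
      _ = _ := by rw [hgf]; group
  obtain ⟨w, hw, x, hx, hwl, hxu, hux⟩ := exists_factor hm hu
  obtain ⟨v', hv'⟩ : ∃ v', v' = m⁻¹ * x * m * v := ⟨_, rfl⟩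
  have hv'u : v' ∈ upper F n := hv' ▸ mul_mem hxu hv
  have e' : g = w * m * v' := by rw [e, hux, hv']; group
  have h1 : theta c w * m * theta c v' = w * m * v' := by
    have := hgf
    rwa [e', map_mul, map_mul, hmf] at this
  have hlow : m⁻¹ * (w⁻¹ * theta c w) * m ∈ lower F n := by
    have h2 := theta_lower c hwl
    rw [map_mul, map_mul, map_inv, hmf] at h2
    have := mul_mem (inv_mem hwl) h2
    simpa [mul_assoc] using this
  have hup : m⁻¹ * (w⁻¹ * theta c w) * m ∈ upper F n := by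
    have : m⁻¹ * (w⁻¹ * theta c w) * m = v' * (theta c v')⁻¹ := by
      calc m⁻¹ * (w⁻¹ * theta c w) * m = m⁻¹ * w⁻¹ * (theta c w * m * theta c v') * (theta c v')⁻¹ := by group
        _ = _ := by rw [h1]; group
    rw [this]
    exact mul_mem hv'u (inv_mem (theta_upper c hv'u))
  have h3 := upper_inf_lower hup hlow
  rw [mul_eq_one_iff_eq_inv, mul_eq_left] at h3
  have hwf : theta c w = w := (eq_of_inv_mul_eq_one h3).symm
  refine ⟨w, hw, m, hm, v', hv'u, (theta_eq_iff c w).mp hwf, (theta_eq_iff c m).mp hmf, ?_, e'⟩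
  refine (theta_eq_iff c v').mp ?_
  rw [hwf] at h1
  exact mul_left_cancel h1

/-- All subgroups of odd index of `SU_n(q)`, `q` even, are pronormal. -/
theorem pronormal_SUs_two [CharP F 2] {H : Subgroup (SUs c n)} (hH : ¬ 2 ∣ H.index) :
    Cfsg.IsPronormal H := by
  classical
  haveI : Fact (Nat.Prime 2) := ⟨Nat.prime_two⟩
  have hcov : PSUBorel.Cover c 2 (MonoidHom.id (SUs c n)) :=
    ⟨fun x => ⟨x, rfl⟩, fun z hz => by
      rw [MonoidHom.mem_ker, MonoidHom.id_apply] at hz; subst hz; exact one_mem _, 1, Nat.coprime_one_left 2,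
      fun z hz => by rw [pow_one]; exact hz⟩
  obtain ⟨S, hS⟩ := PSUBorel.exists_sylow c 2 hcov
  rw [Subgroup.map_id] at hS
  have hUU : ∀ A : SUs c n, A ∈ UU c n ↔ (A : SL) ∈ upper F n := by
    intro A
    constructor
    · intro h i j hij
      rcases hij.eq_or_lt with rfl | h'
      · exact h.2 j j rfl
      · rw [PSUBorel.UU_below c h h', Matrix.one_apply_ne h'.ne']
    · intro h
      refine ⟨fun i j hij => ?_, fun i j e => ?_⟩
      · have h' : j < i := hij
        rw [(PSLn.mem_upper.mp h) i j h'.le, Matrix.one_apply_ne h'.ne']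
      · obtain rfl := Fin.ext e
        exact (PSLn.mem_upper.mp h) i i le_rfl
  refine pronormal_of_one S (fun K hSK => ?_) hH
  refine pronormal_of_torus S (T := (diagSL F n).comap (SUs c n).subtype)
    (N := (monSL F n).comap (SUs c n).subtype) ?_ ?_ ?_ ?_ hSK ?_
  · intro a ha b hb
    exact Subtype.ext (diag_comm ha hb)
  · intro t ht
    refine Subgroup.mem_normalizer_fintype fun y hy => ?_
    rw [hS] at hy ⊢
    refine PSUBorel.Rad_conj c (fun i j hij => ?_) hy
    have h' : j < i := hij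
    exact ht i j h'.ne'
  · intro g hg
    have hgP : g ∈ Par c fun i : Fin n => (i : ℕ) := by
      refine PSUBorel.normalizer_lift c 2 hcov (φ := MonoidHom.id _) ?_
      rw [Subgroup.map_id, ← hS]
      exact hg
    have hlow : ∀ i j : Fin n, j < i → g.1.1 i j = 0 := fun i j h => hgP i j h
    have hdet : (Matrix.diagonal fun i => g.1.1 i i).det = 1 := by
      have h := g.1.2
      rw [Matrix.det_of_upperTriangular (M := g.1.1) fun i j h => hlow i j h] at h
      rw [Matrix.det_diagonal]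
      exact h
    let D : SL := ⟨_, hdet⟩
    have hDd : D ∈ diagSL F n := fun i j h => by
      show (Matrix.diagonal fun i => g.1.1 i i) i j = 0
      exact Matrix.diagonal_apply_ne _ h
    have hDs : D ∈ SUs c n := by
      show (Matrix.diagonal fun i => g.1.1 i i) * aJ F n * ((Matrix.diagonal fun i => g.1.1 i i).map c.σ)ᵀ = aJ F n
      rw [Matrix.diagonal_map (map_zero _), Matrix.diagonal_transpose]
      ext i j
      rw [Matrix.mul_diagonal, Matrix.diagonal_mul]
      by_cases hj : j = i.rev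
      · subst hj
        have h := PSUBorel.cond_apply c g.2 i i.rev
        rw [if_pos rfl, Finset.sum_eq_single i] at h
        · simp only [PSUBorel.aJ, Matrix.of_apply, if_true, mul_one]
          exact h
        · intro l _ hl
          rcases lt_or_gt_of_ne hl with h' | h'
          · rw [hlow i l h', zero_mul]
          · rw [hlow i.rev l.rev (Fin.rev_lt_rev.mpr h'), map_zero, mul_zero]
        · simp
      · simp only [PSUBorel.aJ, Matrix.of_apply, if_neg hj, mul_zero, zero_mul]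
    let D' : SUs c n := ⟨D, hDs⟩
    have hDP : D' ∈ Par c fun i : Fin n => (i : ℕ) := fun i j hij => by
      have h' : j < i := hij
      exact hDd i j h'.ne'
    have hu : g * D'⁻¹ ∈ UU c n := by
      refine PSUBorel.mem_UU_of_diag c (mul_mem hgP (inv_mem hDP)) fun i => ?_
      have h1 := PSUBorel.diag_mul c hDP (inv_mem hDP) i
      rw [mul_inv_cancel] at h1
      rw [PSUBorel.diag_mul c hgP (inv_mem hDP)]
      have h2 : D'.1.1 i i = g.1.1 i i := Matrix.diagonal_apply_eq _ i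
      rw [h2] at h1
      rw [← h1]
      simp [PSUBorel.coe_one]
    have hmem := Subgroup.mul_mem_sup (S := (S : Subgroup (SUs c n)))
      (T := (diagSL F n).comap (SUs c n).subtype) (hS.symm ▸ hu) (show D' ∈ _ from hDd)
    rwa [inv_mul_cancel_right] at hmem
  · exact (Subgroup.comap_mono mon_normalizes).trans (Subgroup.le_normalizer_comap _)
  · intro g hg
    obtain ⟨u, hu, m, hm, v, hv, hus, hms, hvs, e⟩ := exists_bruhat_SU c g.2
    have hu' : (⟨u, hus⟩ : SUs c n) ∈ (S : Subgroup (SUs c n)) := by rw [hS, hUU]; exact hu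
    have hv' : (⟨v, hvs⟩ : SUs c n) ∈ (S : Subgroup (SUs c n)) := by rw [hS, hUU]; exact hv
    have e' : g = (⟨u, hus⟩ : SUs c n) * ⟨m, hms⟩ * ⟨v, hvs⟩ := Subtype.ext e
    have hmK : (⟨m, hms⟩ : SUs c n) ∈ K := by
      have e2 : (⟨m, hms⟩ : SUs c n) = (⟨u, hus⟩ : SUs c n)⁻¹ * g * (⟨v, hvs⟩ : SUs c n)⁻¹ := by
        rw [e']; group
      exact e2 ▸ mul_mem (mul_mem (inv_mem (hSK hu')) hg) (inv_mem (hSK hv'))
    rw [e']
    exact mul_mem (Subgroup.mul_mem_sup hu' ⟨hmK, hm⟩) (Subgroup.mem_sup_left hv')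

end CfsgLib.PronOdd
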